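import Cfsg.Agent.Small.DegreeGraph.Reduce.Sixty

/-!
# A group with the order and degree graph of a small simple group is simple
-/

set_option autoImplicit false
set_option linter.unusedSectionVars false

namespace Cfsg.Lib.Small.DegreeGraph

open Subgroup Cfsg.Lib.Chars
open scoped _root_.Classical

universe u

theorem section_table : ∀ n ∈ orders, ∀ t ∈ orders, (n % t = 0 ∧ t % topPrime n = 0) →
    t = n ∨ (n = 360 ∧ t = 60) ∨ (n = 504 ∧ t = 168) ∨ (n = 2520 ∧ t = 168) ∨ (n = 2520 ∧ t = 504) := by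
  decide +kernel

theorem count_table : ∀ s < 25, ∀ p ∈ [(5, 12), (7, 24)], (p.2 % s = 0 ∧ s % p.1 = 1 ∧ s ≠ 1) →
    s = p.1 + 1 := by
  decide +kernel

theorem kd_360 : ∀ k < 13, ∀ d < 13, (k * d = 12 ∧ 4 % d = 0 ∧ 6 % k = 0) → (k = 3 ∧ d = 4) ∨ k = 6 := by
  decide +kernel

theorem kd_504 : ∀ k < 10, ∀ d < 10, (k * d = 9 ∧ 6 % d = 0 ∧ 3 % k = 0) → k = 3 := by decide +kernel

theorem kd_2520 : ∀ k < 46, ∀ d < 46, (k * d = 45 ∧ 6 % d = 0 ∧ 15 % k = 0) → k = 15 := by decide +kernel

theorem rigid_504_table : ∀ q ∈ [2, 3, 5, 7, 11, 13, 17, 19], ∀ j < 4, ∀ i < 4,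
    (i < j ∧ 504 % q ^ j = 0) → q ^ i % 5 ≠ q ^ j % 5 := by
  decide +kernel

theorem fourth_504 : ∀ q ∈ [2, 3, 5, 7, 11, 13, 17, 19], 504 % q ^ 4 ≠ 0 := by decide +kernel

namespace Hyp

variable {G : Type u} [Group G] [Finite G] {n : ℕ} (h : Hyp G n) [Fact (topPrime n).Prime]
  {y : G} (hy : orderOf y = topPrime n)
include h hy

theorem card_sylow_of_section {t a b : ℕ} (P : Sylow (topPrime n) G) (ht : Nat.card (Sylow (topPrime n) G) * topPrime n ∣ t)
    (hr : topPrime n = a) (hab : (a, b) ∈ [(5, 12), (7, 24)]) (htab : t = a * b) :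
    Nat.card (Sylow (topPrime n) G) = topPrime n + 1 := by
  have hmod := card_sylow_modEq_one (topPrime n) G
  have h1 : Nat.card (Sylow (topPrime n) G) ∣ b := by
    rw [htab, hr, mul_comm a b] at ht
    have ha : 0 < a := hr ▸ (Fact.out : (topPrime n).Prime).pos
    rw [hr]
    exact (Nat.mul_dvd_mul_iff_right ha).1 ht
  have hb : 0 < b ∧ b ≤ 24 := by
    simp only [List.mem_cons, Prod.mk.injEq, List.not_mem_nil, or_false] at hab
    omega
  have hne : Nat.card (Sylow (topPrime n) G) ≠ 1 := fun e => by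
    obtain ⟨Q, hQ⟩ := h.exists_sylow hy
    have := (Nat.card_eq_one_iff_unique.1 e).1
    exact h.zpowers_not_normal hy (hQ ▸ Q.normal_of_subsingleton)
  have key := count_table _ (show Nat.card (Sylow (topPrime n) G) < 25 by
    have := Nat.le_of_dvd hb.1 h1; omega) (a, b) hab
  simp only at key
  have hmod' : Nat.card (Sylow (topPrime n) G) % a = 1 := by
    rw [← hr]
    have h0 : Nat.card (Sylow (topPrime n) G) % topPrime n = 1 % topPrime n := hmod
    rw [h0]
    exact Nat.mod_eq_of_lt (Fact.out : (topPrime n).Prime).one_lt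
  have := key ⟨Nat.mod_eq_zero_of_dvd h1, hmod', hne⟩
  omega

/-- The elements of order `r` do not centralise `M`. -/
theorem not_le_centralizer : ¬ h.M y ≤ centralizer ({y} : Set G) := by
  intro hle
  refine h.zpowers_not_normal hy ⟨fun x hx g => ?_⟩
  obtain ⟨k, rfl⟩ := hx
  set M := h.M y
  have hyM := h.y_mem_M hy
  have hgy : g * y * g⁻¹ ∈ M := Subgroup.Normal.conj_mem inferInstance y hyM g
  have hoy : orderOf (⟨y, hyM⟩ : M) = topPrime n := by rw [← Subgroup.orderOf_coe]; exact hy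
  have hogy : orderOf (⟨g * y * g⁻¹, hgy⟩ : M) = topPrime n := by
    rw [← Subgroup.orderOf_coe]
    show orderOf (MulAut.conj g y) = topPrime n
    rw [MulEquiv.orderOf_eq, hy]
  have hn : (zpowers (⟨y, hyM⟩ : M)).Normal := ⟨fun a ha c => by
    obtain ⟨j, rfl⟩ := ha
    refine ⟨j, Subtype.ext ?_⟩
    have hcy : (c : G) * y = y * (c : G) := mem_centralizer_singleton_iff.1 (hle c.2)
    show ((⟨y, hyM⟩ : M) ^ j : M).1 = ((c * (⟨y, hyM⟩ : M) ^ j * c⁻¹ : M) : G)
    rw [Subgroup.coe_mul, Subgroup.coe_mul, Subgroup.coe_zpow, Subgroup.coe_inv,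
      (Commute.zpow_right (show Commute (c : G) y from hcy) j).eq, mul_inv_cancel_right]⟩
  obtain ⟨j, hj⟩ := mem_of_normal (fun hd => h.not_sq (hd.trans (card_subgroup_dvd_card M)))
    (zpowers (⟨y, hyM⟩ : M)) (by rw [Nat.card_zpowers, hoy]) hogy
  refine ⟨j * k, ?_⟩
  have hj' : y ^ j = g * y * g⁻¹ := congrArg Subtype.val hj
  show y ^ (j * k) = g * y ^ k * g⁻¹
  rw [zpow_mul, hj', conj_zpow]

theorem false_504 (hn : n = 504) (hadj : ¬ (Cfsg.degreeGraph G).Adj 2 3)
    (hM : Nat.card (h.K ⊔ h.M y : Subgroup G) = Nat.card h.K * 168)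
    (hcount : Nat.card (Sylow (topPrime n) G) = topPrime n + 1) : False := by
  obtain ⟨d, hd, -, -, hcard⟩ := h.card_eq_of_count hy hcount
  have hr : topPrime n = 7 := by rw [hn]; rfl
  rw [hr] at hcard
  rw [hr] at hd
  have hdvd := card_subgroup_dvd_card (h.K ⊔ h.M y)
  rw [hM, h.card] at hdvd
  replace hdvd := hdvd.trans hn.dvd
  have hk3 : Nat.card h.K ∣ 3 := (Nat.mul_dvd_mul_iff_right (by norm_num : 0 < 168)).1 hdvd
  have hK : Nat.card h.K = 3 := kd_504 _ (by have := Nat.le_of_dvd (by norm_num) hk3; omega) d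
    (by have := Nat.le_of_dvd (by norm_num) hd; omega)
    ⟨by linarith, Nat.mod_eq_zero_of_dvd hd, Nat.mod_eq_zero_of_dvd hk3⟩
  have htop : h.K ⊔ h.M y = ⊤ := Subgroup.eq_top_of_card_eq _ (by rw [hM, hK, h.card]; omega)
  have := h.K_normal
  have := h.quotient_simple hy htop
  have hq : Nat.card (G ⧸ h.K) = 168 := by
    have h1 := Subgroup.card_eq_card_quotient_mul_card_subgroup h.K
    rw [h.card, hK] at h1
    omega
  exact hadj (adj_two_three (Cfsg.Lib.SLTwoDegrees.charDegrees_subset (QuotientGroup.mk' h.K)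
    (QuotientGroup.mk'_surjective _) (six_mem_168 hq)) dvd_rfl)

theorem false_360_six (hn : n = 360) (hK : Nat.card h.K = 6)
    (hMc : Nat.card (h.M y) = 60 * Nat.card (h.K ⊓ h.M y : Subgroup G))
    (hM : Nat.card (h.K ⊔ h.M y : Subgroup G) = Nat.card h.K * 60)
    (hadj : ¬ (Cfsg.degreeGraph G).Adj 2 3) (hadj' : (Cfsg.degreeGraph G).Adj 2 5) : False := by
  have := Fintype.ofFinite G
  have htop : h.K ⊔ h.M y = ⊤ := Subgroup.eq_top_of_card_eq _ (by rw [hM, hK, h.card]; omega)
  have := h.K_normal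
  have := h.quotient_simple hy htop
  have hq : Nat.card (G ⧸ h.K) = 60 := by
    have h1 := Subgroup.card_eq_card_quotient_mul_card_subgroup h.K
    rw [h.card, hK] at h1
    omega
  by_cases hab : ∀ a ∈ h.K, ∀ b ∈ h.K, a * b = b * a
  · -- then `K` is central
    obtain ⟨-, -, -, e, ⟨χ, rfl⟩, h10⟩ := hadj'
    have hcen : ∀ z ∈ h.K, ∀ g : G, z * g = g * z := by
      intro z hz g
      have hle : h.K ⊔ h.M y ≤ centralizer ({z} : Set G) := sup_le
        (fun a ha => mem_centralizer_singleton_iff.2 (hab a ha z hz))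
        (fun m hm => mem_centralizer_singleton_iff.2 (h.M_comm_K hy hm hz))
      exact (mem_centralizer_singleton_iff.1 (hle (htop ▸ mem_top g))).symm
    have hb := Cfsg.Lib.InducedFamily.deg_sq_le_index χ.2 h.K fun z hz g => by
      rw [hcen z hz g, mul_inv_cancel_right, mul_inv_cancel]
    have hidx : h.K.index = 60 := by rw [Subgroup.index_eq_card, hq]
    rw [hidx] at hb
    have hd : deg (χ : G → ℂ) = Cfsg.charDegree (χ : G → ℂ) := rfl
    rw [← hd] at h10
    have hpos : 0 < deg (χ : G → ℂ) := by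
      refine Nat.pos_of_ne_zero fun e => IsIrrCharacter.apply_one_ne_zero χ.2 ?_
      rw [irr_apply_one_eq_deg, e, Nat.cast_zero]
    have := Nat.pow_le_pow_left (Nat.le_of_dvd hpos h10) 2
    omega
  · -- then `G` is a direct product
    push Not at hab
    obtain ⟨a, ha, b, hb, hne⟩ := hab
    have hmeet : h.K ⊓ h.M y = ⊥ := by
      by_contra hbot
      set Z := (h.K ⊓ h.M y).subgroupOf h.K with hZ
      have hZcen : Z ≤ center h.K := fun z hz => mem_center_iff.2 fun k => Subtype.ext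
        (h.M_comm_K hy (mem_subgroupOf.1 hz).2 k.2).symm
      have hZ1 : Nat.card Z ≠ 1 := fun e => hbot (Subgroup.card_eq_one.1
        ((Nat.card_congr (subgroupOfEquivOfLe inf_le_left).toEquiv).symm.trans e))
      have hZd : Nat.card Z ∣ Nat.card (center h.K) := card_dvd_of_le hZcen
      have hcd : Nat.card (center h.K) ∣ 6 := hK ▸ card_subgroup_dvd_card _
      have hc6 := (center h.K).card_mul_index
      rw [hK] at hc6
      have hcle := Nat.le_of_dvd (by norm_num) hcd
      have hc1 : Nat.card (center h.K) ≠ 1 := fun e => hZ1 (Nat.dvd_one.1 (e ▸ hZd))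
      have hcyc : IsCyclic (h.K ⧸ center h.K) := by
        have hcases : Nat.card (h.K ⧸ center h.K) = 1 ∨ Nat.card (h.K ⧸ center h.K) = 2 ∨
            Nat.card (h.K ⧸ center h.K) = 3 := by
          rw [← Subgroup.index_eq_card]
          generalize Nat.card (center h.K) = c at hcd hc6 hc1 hcle
          interval_cases c <;> omega
        rcases hcases with e | e | e
        · have := (Nat.card_eq_one_iff_unique.1 e).1
          exact isCyclic_of_subsingleton
        · have : Fact (Nat.Prime 2) := ⟨Nat.prime_two⟩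
          exact isCyclic_of_prime_card e
        · have : Fact (Nat.Prime 3) := ⟨Nat.prime_three⟩
          exact isCyclic_of_prime_card e
      exact hne (congrArg Subtype.val
        (commutative_of_cyclic_center_quotient (QuotientGroup.mk' (center h.K))
          (by rw [QuotientGroup.ker_mk']) (⟨a, ha⟩ : h.K) ⟨b, hb⟩))
    rw [hmeet, card_bot, mul_one] at hMc
    have hq6 : Nat.card (G ⧸ h.M y) = 6 := by
      have h1 := Subgroup.card_eq_card_quotient_mul_card_subgroup (h.M y)
      rw [h.card, hMc] at h1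
      omega
    have hne' : (QuotientGroup.mk' (h.M y) a) * QuotientGroup.mk' (h.M y) b ≠
        QuotientGroup.mk' (h.M y) b * QuotientGroup.mk' (h.M y) a := by
      intro e
      rw [← map_mul, ← map_mul] at e
      have h1 : (a * b)⁻¹ * (b * a) ∈ h.M y := QuotientGroup.eq.1 e
      have h2 : (a * b)⁻¹ * (b * a) ∈ h.K ⊓ h.M y :=
        Subgroup.mem_inf.2 ⟨mul_mem (inv_mem (mul_mem ha hb)) (mul_mem hb ha), h1⟩
      rw [hmeet, mem_bot, inv_mul_eq_one] at h2
      exact hne h2
    obtain ⟨η, hη⟩ := two_mem_six hq6 _ _ hne'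
    obtain ⟨θ, hθ⟩ := three_mem_60 hq
    let f : G →* (G ⧸ h.K) × (G ⧸ h.M y) := (QuotientGroup.mk' h.K).prod (QuotientGroup.mk' (h.M y))
    have hinj : Function.Injective f := by
      rw [← MonoidHom.ker_eq_bot_iff, MonoidHom.ker_prod, QuotientGroup.ker_mk', QuotientGroup.ker_mk', hmeet]
    have hbij : Function.Bijective f := (Nat.bijective_iff_injective_and_card f).2
      ⟨hinj, by rw [Nat.card_prod, hq, hq6, h.card]; omega⟩
    have hmem : 6 ∈ Cfsg.charDegrees ((G ⧸ h.K) × (G ⧸ h.M y)) := by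
      refine ⟨⟨_, isIrrCharacter_prod θ.2 η.2⟩, ?_⟩
      apply Nat.cast_injective (R := ℂ)
      refine (irr_apply_one_eq_deg ⟨_, isIrrCharacter_prod θ.2 η.2⟩).symm.trans ?_
      show (θ : G ⧸ h.K → ℂ) 1 * (η : G ⧸ h.M y → ℂ) 1 = _
      rw [irr_apply_one_eq_deg, irr_apply_one_eq_deg,
        show deg (θ : G ⧸ h.K → ℂ) = 3 from hθ, show deg (η : G ⧸ h.M y → ℂ) = 2 from hη]
      norm_num
    exact hadj (adj_two_three (charDegrees_equiv (MulEquiv.ofBijective f hbij) hmem) dvd_rfl)

theorem false_360_three (hn : n = 360) (hK : Nat.card h.K = 3)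
    (hrel : (centralizer ({y} : Set G)).relIndex (normalizer (zpowers y : Set G)) = 4)
    (hM : Nat.card (h.K ⊔ h.M y : Subgroup G) = Nat.card h.K * 60)
    (hadj : ¬ (Cfsg.degreeGraph G).Adj 2 3) : False := by
  have hr : topPrime n = 5 := by rw [hn]; rfl
  have hy5 : orderOf y = 5 := hy.trans hr
  have := h.K_normal
  -- an element squaring `y`
  obtain ⟨g, hg⟩ : ∃ g : G, g * y * g⁻¹ = y ^ 2 := by
    set Z := zpowers y with hZ
    have hZc : Nat.card Z = 5 := by rw [hZ, Nat.card_zpowers, hy5]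
    have hcyc : IsCyclic Z := Subgroup.isCyclic_zpowers y
    have hcomm : ∀ a b : Z, a * b = b * a := (IsCyclic.commGroup (α := Z)).mul_comm
    let sq : Z →* Z :=
      { toFun := fun a => a ^ 2
        map_one' := one_pow 2
        map_mul' := fun a b => (show Commute a b from hcomm a b).mul_pow 2 }
    have hsq : Function.Bijective sq := (powCoprime (G := Z) (n := 2) (by rw [hZc]; norm_num)).bijective
    set φ := (zpowers y).normalizerMonoidHom with hφ
    have hsurj : Function.Surjective φ := by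
      rw [← MonoidHom.range_eq_top]
      refine Subgroup.eq_top_of_card_eq _ ?_
      rw [← Subgroup.index_ker, Subgroup.normalizerMonoidHom_ker, IsCyclic.card_mulAut, hZc,
        Nat.totient_prime (by norm_num)]
      rw [zpowers_eq_closure, centralizer_closure, ← zpowers_eq_closure] at *
      exact hrel
    obtain ⟨⟨g, hgN⟩, hg⟩ := hsurj (MulEquiv.ofBijective sq hsq)
    refine ⟨g, ?_⟩
    have h1 := DFunLike.congr_fun hg ⟨y, mem_zpowers y⟩
    exact congrArg Subtype.val h1
  set π := QuotientGroup.mk' h.K with hπ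
  set Mb := (h.M y).map π with hMb
  have hMbn : Mb.Normal := (normalClosure_normal).map π (QuotientGroup.mk'_surjective _)
  have hGq : Nat.card (G ⧸ h.K) = 120 := by
    have h1 := Subgroup.card_eq_card_quotient_mul_card_subgroup h.K
    rw [h.card, hK] at h1
    omega
  have hMbc : Nat.card Mb = 60 := by
    have h1 : (h.K ⊔ h.M y).map π = Mb := by
      rw [Subgroup.map_sup, hMb, (Subgroup.map_eq_bot_iff _).2 (by rw [hπ, QuotientGroup.ker_mk']),
        bot_sup_eq]
    have h2 : Nat.card Mb * (h.K ⊔ h.M y).index = Nat.card (G ⧸ h.K) := by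
      rw [← Subgroup.card_mul_index Mb, ← h1, Subgroup.index_map_eq _ (QuotientGroup.mk'_surjective _)
        (by rw [QuotientGroup.ker_mk']; exact le_sup_left)]
    have h3 := (h.K ⊔ h.M y).card_mul_index
    rw [hM, hK, h.card] at h3
    rw [hGq, show (h.K ⊔ h.M y).index = 2 by omega] at h2
    omega
  have hyb : π y ∈ Mb := ⟨y, h.y_mem_M hy, rfl⟩
  have hyo : orderOf (π y) = 5 := by
    have : Fact (Nat.Prime 5) := ⟨by norm_num⟩
    refine orderOf_eq_prime (p := 5) ?_ fun e => ?_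
    · rw [← map_pow, show y ^ 5 = 1 by rw [← hy5]; exact pow_orderOf_eq_one y, map_one]
    have h1 : y ∈ h.K := (QuotientGroup.eq_one_iff y).1 e
    exact h.not_dvd_K (hy ▸ Subgroup.orderOf_dvd_natCard _ h1)
  have : IsSimpleGroup Mb := by
    have : Nontrivial Mb := Finite.one_lt_card_iff_nontrivial.1 (by rw [hMbc]; norm_num)
    refine ⟨fun Y hY => ?_⟩
    let f : h.M y →* Mb := π.subgroupMap (h.M y)
    have hf : Function.Surjective f := π.subgroupMap_surjective (h.M y)
    have hYn : (Y.comap f).Normal := hY.comap f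
    obtain ⟨hgen, hcore⟩ := h.normal_M hy
    rw [← Subgroup.map_comap_eq_self_of_surjective hf Y]
    by_cases hd : topPrime n ∣ Nat.card (Y.comap f)
    · right
      rw [hgen _ hYn hd, Subgroup.map_top_of_surjective _ hf]
    · left
      rw [Subgroup.map_eq_bot_iff]
      intro x hx
      exact Subtype.ext ((QuotientGroup.eq_one_iff _).2 (mem_subgroupOf.1 (hcore _ hYn hd hx)).1)
  obtain ⟨θ, hθ⟩ := three_mem_60 hMbc
  have hθ1 : (θ : Mb → ℂ) 1 = 3 := by
    rw [irr_apply_one_eq_deg, show deg (θ : Mb → ℂ) = 3 from hθ]; norm_num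
  have := Fintype.ofFinite (G ⧸ h.K)
  have := Fintype.ofFinite Mb
  set I := inertia Mb (θ : Mb → ℂ) with hI
  have hle : Mb ≤ I := le_inertia (isClassFunction_isChar (isCharacter_of_irr θ.2))
  have hnot : π g ∉ I := by
    intro hgI
    have hconj : ∀ k : ℕ, (θ : Mb → ℂ) ((⟨π y, hyb⟩ : Mb) ^ (2 * k)) = (θ : Mb → ℂ) ((⟨π y, hyb⟩ : Mb) ^ k) := by
      intro k
      have h1 := congrFun (show conjN Mb (π g) (θ : Mb → ℂ) = θ from hgI) ((⟨π y, hyb⟩ : Mb) ^ k)
      rw [← h1, conjN]
      refine congrArg _ (Subtype.ext ?_)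
      show ((⟨π y, hyb⟩ : Mb) ^ (2 * k) : Mb).1 = π g * ((⟨π y, hyb⟩ : Mb) ^ k : Mb).1 * (π g)⁻¹
      rw [Subgroup.coe_pow, Subgroup.coe_pow]
      show π y ^ (2 * k) = π g * π y ^ k * (π g)⁻¹
      rw [pow_mul, ← map_pow, ← hg, map_mul, map_mul, map_inv, conj_pow]
    set v : Mb := ⟨π y, hyb⟩
    have hv : orderOf v = 5 := by rw [← Subgroup.orderOf_coe]; exact hyo
    have h8 : v ^ 8 = v ^ 3 := by rw [show 8 = 5 + 3 from rfl, pow_add, ← hv, pow_orderOf_eq_one, one_mul]
    have e1 := hconj 1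
    have e2 := hconj 2
    have e4 := hconj 4
    norm_num at e1 e2 e4
    rw [h8] at e4
    exact not_constant_five θ.2 hθ1 hv e1 (e4.trans (e2.trans e1)) (e2.trans e1)
  have hIc : Nat.card I = 60 := by
    have h1 : 60 ∣ Nat.card I := hMbc ▸ card_dvd_of_le hle
    have h2 : Nat.card I ∣ 120 := hGq ▸ card_subgroup_dvd_card I
    have h3 : Nat.card I ≠ 120 := fun e => hnot ((Subgroup.eq_top_of_card_eq I (e.trans hGq.symm)) ▸ mem_top _)
    obtain ⟨c, hc⟩ := h1
    have := Nat.le_of_dvd (by norm_num) h2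
    have : 0 < Nat.card I := Nat.card_pos
    omega
  have horb : (conjOrbit Mb (θ : Mb → ℂ)).card = 2 := by
    have h1 := card_conjOrbit Mb (θ : Mb → ℂ)
    rw [← hI, hIc, hGq] at h1
    omega
  obtain ⟨χ, hχ, hχθ⟩ := exists_over Mb θ.2
  have hcl := congrFun (clifford Mb hχ θ.2 hχθ) 1
  obtain ⟨m, hm⟩ := IsCharacter.exists_mult (IsCharacter.restrict (isCharacter_of_irr hχ) Mb) θ.2
  have hd : deg χ = m * 6 := by
    apply Nat.cast_injective (R := ℂ)
    rw [← irr_apply_one_eq_deg ⟨χ, hχ⟩]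
    refine Eq.trans (show χ 1 = χ ((1 : Mb) : G ⧸ h.K) from rfl) (hcl.trans ?_)
    rw [Pi.smul_apply, Finset.sum_apply, smul_eq_mul, hm,
      Finset.sum_congr rfl (g := fun _ => (3 : ℂ)) (fun ψ hψ => by
        obtain ⟨c, rfl⟩ := (mem_conjOrbit Mb).1 hψ
        rw [← hθ1, conjN]
        refine congrArg _ (Subtype.ext ?_)
        show c * ((1 : Mb) : G ⧸ h.K) * c⁻¹ = ((1 : Mb) : G ⧸ h.K)
        simp), Finset.sum_const, horb]
    push_cast
    ring
  refine hadj (adj_two_three (d := deg χ) (Cfsg.Lib.SLTwoDegrees.charDegrees_subset π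
    (QuotientGroup.mk'_surjective _) ⟨⟨χ, hχ⟩, rfl⟩) ?_)
  rw [hd]
  exact dvd_mul_left 6 m

theorem false_2520_small (hn : n = 2520) (h5 : 5 ∈ Cfsg.degreePrimes G)
    (hM : Nat.card (h.K ⊔ h.M y : Subgroup G) = Nat.card h.K * 168)
    (hcount : Nat.card (Sylow (topPrime n) G) = topPrime n + 1) : False := by
  obtain ⟨d, hd, -, -, hcard⟩ := h.card_eq_of_count hy hcount
  have hr : topPrime n = 7 := by rw [hn]; rfl
  rw [hr] at hcard
  rw [hr] at hd
  have hdvd := card_subgroup_dvd_card (h.K ⊔ h.M y)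
  rw [hM, h.card] at hdvd
  replace hdvd := hdvd.trans hn.dvd
  have hk15 : Nat.card h.K ∣ 15 := (Nat.mul_dvd_mul_iff_right (by norm_num : 0 < 168)).1 hdvd
  have hK : Nat.card h.K = 15 := kd_2520 _ (by have := Nat.le_of_dvd (by norm_num) hk15; omega) d
    (by have := Nat.le_of_dvd (by norm_num) hd; omega)
    ⟨by linarith, Nat.mod_eq_zero_of_dvd hd, Nat.mod_eq_zero_of_dvd hk15⟩
  have : Fact (Nat.Prime 5) := ⟨by norm_num⟩
  have := h.K_normal
  obtain ⟨Q⟩ : Nonempty (Sylow 5 h.K) := inferInstance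
  obtain ⟨hs1, hs2⟩ := Cfsg.Lib.Small.sylow_facts Q (a := 1) (m := 3) (by rw [hK]; norm_num) (by norm_num)
  have hone : Nat.card (Sylow 5 h.K) = 1 := by
    have := Nat.le_of_dvd (by norm_num) hs1
    omega
  have := (Nat.card_eq_one_iff_unique.1 hone).1
  have hQn : (Q : Subgroup h.K).Normal := Q.normal_of_subsingleton
  have : (Q : Subgroup h.K).Characteristic := Q.characteristic_of_normal hQn
  set A := (Q : Subgroup h.K).map h.K.subtype with hA
  have hAn : A.Normal := by rw [hA]; infer_instance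
  have hAc : Nat.card A = 5 := by
    rw [hA, Subgroup.card_map_of_injective h.K.subtype_injective]
    exact (Cfsg.Lib.Small.card_sylow_of_factor Q (a := 1) (m := 3) (by rw [hK]; norm_num) (by norm_num)).trans
      (pow_one 5)
  have := dvd_index_of_mem_degreePrimes h5 A fun a ha b hb => by
    have : IsCyclic A := isCyclic_of_prime_card hAc
    exact congrArg Subtype.val ((IsCyclic.commGroup (α := A)).mul_comm ⟨a, ha⟩ ⟨b, hb⟩)
  have h1 := A.card_mul_index
  rw [hAc, h.card] at h1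
  rw [show A.index = 504 by omega] at this
  norm_num at this

theorem false_2520_large (hn : n = 2520) (h5 : 5 ∈ Cfsg.degreePrimes G)
    (hMc : Nat.card (h.M y) = 504 * Nat.card (h.K ⊓ h.M y : Subgroup G))
    (hM : Nat.card (h.K ⊔ h.M y : Subgroup G) = Nat.card h.K * 504) : False := by
  have : Fact (Nat.Prime 5) := ⟨by norm_num⟩
  have hdvd := card_subgroup_dvd_card (h.K ⊔ h.M y)
  rw [hM, h.card] at hdvd
  replace hdvd := hdvd.trans hn.dvd
  have hk5 : Nat.card h.K ∣ 5 := (Nat.mul_dvd_mul_iff_right (by norm_num : 0 < 504)).1 hdvd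
  have := h.K_normal
  rcases (Nat.dvd_prime (by norm_num : Nat.Prime 5)).1 hk5 with e | e
  swap
  · have := dvd_index_of_mem_degreePrimes h5 h.K fun a ha b hb => by
      have : IsCyclic h.K := isCyclic_of_prime_card e
      exact congrArg Subtype.val ((IsCyclic.commGroup (α := h.K)).mul_comm ⟨a, ha⟩ ⟨b, hb⟩)
    have h1 := h.K.card_mul_index
    rw [e, h.card] at h1
    rw [show h.K.index = 504 by omega] at this
    norm_num at this
  have hKbot : h.K = ⊥ := Subgroup.card_eq_one.1 e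
  rw [show h.K ⊓ h.M y = ⊥ by rw [hKbot, bot_inf_eq], card_bot, mul_one] at hMc
  obtain ⟨q, hq⟩ := exists_prime_orderOf_dvd_card' (G := G) 5 (by rw [h.card]; exact hn ▸ (by norm_num))
  have hqM : q ∈ normalizer (h.M y : Set G) := by rw [normalizer_eq_top]; trivial
  have hcen := centralizes_of_rigid hq hqM (by rw [hMc]; norm_num) fun p hp i j hij hja => by
    have hpd : p ^ j ∣ 504 := hMc ▸ (hp.pow_dvd_iff_le_factorization Nat.card_pos.ne').2 hja
    have hmem := prime_mem hp (n := 504) (by simp [orders])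
      ((dvd_pow_self p (by omega : j ≠ 0)).trans hpd)
    have hj4 : j < 4 := by
      by_contra hge
      exact fourth_504 p hmem (Nat.mod_eq_zero_of_dvd ((pow_dvd_pow p (not_lt.1 hge)).trans hpd))
    exact rigid_504_table p hmem j hj4 i (by omega) ⟨hij, Nat.mod_eq_zero_of_dvd hpd⟩
  set C := centralizer (h.M y : Set G) with hC
  have hqC : q ∈ C := mem_centralizer_iff.2 fun m hm => mem_centralizer_singleton_iff.1 (hcen hm)
  by_cases hd : topPrime n ∣ Nat.card C
  · refine h.not_le_centralizer hy fun m hm => mem_centralizer_singleton_iff.2 ?_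
    exact mem_centralizer_iff.1 (mem_of_normal h.not_sq C hd hy) m hm
  · have := h.le_K C hd hqC
    rw [hKbot, mem_bot] at this
    rw [this, orderOf_one] at hq
    omega

omit hy in
/-- The group is simple. -/
theorem isSimpleGroup (h504 : n = 504 → ¬ (Cfsg.degreeGraph G).Adj 2 3)
    (h360 : n = 360 → ¬ (Cfsg.degreeGraph G).Adj 2 3 ∧ (Cfsg.degreeGraph G).Adj 2 5)
    (h2520 : n = 2520 → 5 ∈ Cfsg.degreePrimes G) : IsSimpleGroup G := by
  obtain ⟨y, hy⟩ := h.exists_orderOf
  obtain ⟨t, ht, hrt, hMc, hM, hcount⟩ := h.section_order hy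
  obtain ⟨P, -⟩ := h.exists_sylow hy
  have hdvd : t ∣ n := h.card ▸ (Dvd.intro_left _ hM.symm).trans (card_subgroup_dvd_card _)
  rcases section_table n h.mem t ht ⟨Nat.mod_eq_zero_of_dvd hdvd, Nat.mod_eq_zero_of_dvd hrt⟩ with
    e | ⟨hn, e⟩ | ⟨hn, e⟩ | ⟨hn, e⟩ | ⟨hn, e⟩
  · exact h.simple_of_eq hy e hMc
  · exfalso
    subst e
    have hr : topPrime n = 5 := by rw [hn]; rfl
    have hc := h.card_sylow_of_section hy P (hcount P) hr (b := 12) (by simp) rfl
    obtain ⟨d, hd, -, hrel, hcard⟩ := h.card_eq_of_count hy hc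
    rw [hr] at hcard
    rw [hr] at hd
    have hdv := card_subgroup_dvd_card (h.K ⊔ h.M y)
    rw [hM, h.card] at hdv
    replace hdv := hdv.trans hn.dvd
    have hk6 : Nat.card h.K ∣ 6 := (Nat.mul_dvd_mul_iff_right (by norm_num : 0 < 60)).1 hdv
    rcases kd_360 _ (by have := Nat.le_of_dvd (by norm_num) hk6; omega) d
      (by have := Nat.le_of_dvd (by norm_num) hd; omega)
      ⟨by linarith, Nat.mod_eq_zero_of_dvd hd, Nat.mod_eq_zero_of_dvd hk6⟩ with ⟨hK, hd4⟩ | hK
    · exact h.false_360_three hy hn hK (hrel.trans hd4) hM (h360 hn).1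
    · exact h.false_360_six hy hn hK hMc hM (h360 hn).1 (h360 hn).2
  · exfalso
    subst e
    have hr : topPrime n = 7 := by rw [hn]; rfl
    exact h.false_504 hy hn (h504 hn) hM (h.card_sylow_of_section hy P (hcount P) hr (b := 24) (by simp) rfl)
  · exfalso
    subst e
    have hr : topPrime n = 7 := by rw [hn]; rfl
    exact h.false_2520_small hy hn (h2520 hn) hM
      (h.card_sylow_of_section hy P (hcount P) hr (b := 24) (by simp) rfl)
  · exfalso
    subst e
    exact h.false_2520_large hy hn (h2520 hn) hMc hM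

end Hyp

end Cfsg.Lib.Small.DegreeGraph
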