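import Cfsg.Agent.Small.DegreeGraph.Reduce.Rigid
import Cfsg.Agent.Small.DegreeGraph.Orders.Main
import Cfsg.Agent.Small.DegreeGraph.Data.Facts
import Cfsg.Agent.Components.Cores
import Cfsg.Agent.S0169

/-!
# A group with the order and the degree primes of a small simple group

Normal subgroups of order prime to the largest prime `r` are centralised by the elements of order
`r`, and the subgroup generated by these has a simple quotient by its centre.
-/

set_option autoImplicit false
set_option linter.unusedSectionVars false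

namespace Cfsg.Lib.Small.DegreeGraph

open Subgroup

universe u

theorem topPrime_facts : ∀ n ∈ orders, topPrime n ∈ [5, 7, 11, 13, 17, 19] ∧ n % topPrime n = 0 ∧
    n % (topPrime n * topPrime n) ≠ 0 := by
  decide +kernel

theorem topPrime_prime {n : ℕ} (hn : n ∈ orders) : (topPrime n).Prime := by
  have h := (topPrime_facts n hn).1
  simp only [List.mem_cons, List.not_mem_nil, or_false] at h
  rcases h with e | e | e | e | e | e <;> rw [e] <;> norm_num

theorem orders_dvd : ∀ n ∈ orders, 2 ^ 4 * 3 ^ 3 * 5 * 7 * 11 * 13 * 17 * 19 % n = 0 ∧ n < 6000 ∧ 1 < n := by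
  decide +kernel

theorem prime_mem {q n : ℕ} (hq : q.Prime) (hn : n ∈ orders) (h : q ∣ n) :
    q ∈ [2, 3, 5, 7, 11, 13, 17, 19] := by
  have h' := h.trans (Nat.dvd_of_mod_eq_zero (orders_dvd n hn).1)
  have key : ∀ p : ℕ, p.Prime → q ∣ p → q = p := fun p hp hd => (Nat.prime_dvd_prime_iff_eq hq hp).1 hd
  simp only [List.mem_cons, List.not_mem_nil, or_false]
  rcases hq.dvd_mul.1 h' with h' | h'
  swap; · have := key 19 (by norm_num) h'; omega
  rcases hq.dvd_mul.1 h' with h' | h'
  swap; · have := key 17 (by norm_num) h'; omega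
  rcases hq.dvd_mul.1 h' with h' | h'
  swap; · have := key 13 (by norm_num) h'; omega
  rcases hq.dvd_mul.1 h' with h' | h'
  swap; · have := key 11 (by norm_num) h'; omega
  rcases hq.dvd_mul.1 h' with h' | h'
  swap; · have := key 7 (by norm_num) h'; omega
  rcases hq.dvd_mul.1 h' with h' | h'
  swap; · have := key 5 (by norm_num) h'; omega
  rcases hq.dvd_mul.1 h' with h' | h'
  · have := key 2 Nat.prime_two (hq.dvd_of_dvd_pow h'); omega
  · have := key 3 Nat.prime_three (hq.dvd_of_dvd_pow h'); omega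

/-- The prime whose Sylow subgroup may admit a fixed-point-free automorphism of order `r`. -/
def oddPrime (n : ℕ) : ℕ := if n = 5616 then 3 else 2

set_option synthInstance.maxSize 1000 in
set_option synthInstance.maxHeartbeats 400000 in
theorem rigid_table : ∀ n ∈ orders, ∀ q ∈ [2, 3, 5, 7, 11, 13, 17, 19], ∀ j < 5, ∀ i < 5,
    (q ≠ topPrime n ∧ i < j ∧ n % q ^ j = 0 ∧ q ^ i % topPrime n = q ^ j % topPrime n) →
      i = 0 ∧ j = 3 ∧ q = oddPrime n ∧ n % q ^ 4 ≠ 0 ∧ n ∈ [168, 504, 2520, 5616] := by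
  decide +kernel

theorem fifth_table : ∀ n ∈ orders, ∀ q ∈ [2, 3, 5, 7, 11, 13, 17, 19], n % q ^ 5 ≠ 0 := by
  decide +kernel

theorem rigid_or_special {n q a : ℕ} (hn : n ∈ orders) (hq : q.Prime) (hqr : q ≠ topPrime n)
    (ha : q ^ a ∣ n) {i j : ℕ} (hij : i < j) (hja : j ≤ a)
    (h : q ^ i % topPrime n = q ^ j % topPrime n) :
    i = 0 ∧ j = 3 ∧ a = 3 ∧ q = oddPrime n ∧ ¬ q ^ 4 ∣ n ∧ n ∈ [168, 504, 2520, 5616] := by
  have hqn : q ∣ n := (dvd_pow_self q (by omega : a ≠ 0)).trans ha
  have h5 := fifth_table n hn q (prime_mem hq hn hqn)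
  have ha5 : a < 5 := by
    by_contra hge
    exact h5 (Nat.mod_eq_zero_of_dvd ((pow_dvd_pow q (not_lt.1 hge)).trans ha))
  obtain ⟨h1, h2, h3, h4, h6⟩ := rigid_table n hn q (prime_mem hq hn hqn) j (by omega) i (by omega)
    ⟨hqr, hij, Nat.mod_eq_zero_of_dvd ((pow_dvd_pow q hja).trans ha), h⟩
  refine ⟨h1, h2, ?_, h3, fun hd => h4 (Nat.mod_eq_zero_of_dvd hd), h6⟩
  by_contra hne
  exact h4 (Nat.mod_eq_zero_of_dvd ((pow_dvd_pow q (by omega : 4 ≤ a)).trans ha))

/-- A normal subgroup of order divisible by a prime dividing the order once contains all elements of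
that order. -/
theorem mem_of_normal {T : Type u} [Group T] [Finite T] {r : ℕ} [Fact r.Prime]
    (hsq : ¬ r * r ∣ Nat.card T) (H : Subgroup T) [H.Normal] (hH : r ∣ Nat.card H) {y : T}
    (hy : orderOf y = r) : y ∈ H := by
  obtain ⟨w, hw⟩ := exists_prime_orderOf_dvd_card' r hH
  have hw' : orderOf (w : T) = r := (orderOf_coe w).trans hw
  have hsyl : ∀ x : T, orderOf x = r → ∃ P : Sylow r T, (P : Subgroup T) = zpowers x := fun x hx => by
    obtain ⟨P, hP⟩ := (isPGroup_zpowers hx).exists_le_sylow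
    refine ⟨P, (eq_of_le_of_card_ge hP ?_).symm⟩
    obtain ⟨k, hk⟩ := IsPGroup.iff_card.1 P.2
    rw [Nat.card_zpowers, hx, hk]
    by_contra hlt
    refine hsq ?_
    have hk2 : 2 ≤ k := by
      by_contra hk2
      exact hlt ((Nat.pow_le_pow_right (Fact.out : r.Prime).pos (show k ≤ 1 by omega)).trans_eq (pow_one r))
    rw [← pow_two]
    exact (pow_dvd_pow r hk2).trans (hk ▸ card_subgroup_dvd_card _)
  obtain ⟨P, hP⟩ := hsyl y hy
  obtain ⟨Q, hQ⟩ := hsyl w hw'
  obtain ⟨g, hg⟩ := MulAction.exists_smul_eq T Q P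
  have hle : (Q : Subgroup T) ≤ H := hQ ▸ zpowers_le.2 w.2
  have hyP : y ∈ (P : Subgroup T) := hP ▸ mem_zpowers y
  rw [← hg, Sylow.coe_subgroup_smul] at hyP
  obtain ⟨x, hx, rfl⟩ := hyP
  exact Subgroup.Normal.conj_mem inferInstance x (hle hx) g

/-- A prime dividing a degree divides the index of every abelian normal subgroup. -/
theorem dvd_index_of_mem_degreePrimes {G : Type u} [Group G] [Finite G] {q : ℕ}
    (hq : q ∈ Cfsg.degreePrimes G) (A : Subgroup G) [A.Normal] (hA : ∀ a ∈ A, ∀ b ∈ A, a * b = b * a) :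
    q ∣ A.index := by
  obtain ⟨-, e, ⟨χ, rfl⟩, hdvd⟩ := hq
  obtain ⟨m, ρ, hρ, hρχ⟩ := χ.2
  haveI := hρ
  have := Fintype.ofFinite G
  have hdd : Cfsg.charDegree (χ : G → ℂ) = Module.finrank ℂ (Fin m → ℂ) := by
    apply Nat.cast_injective (R := ℂ)
    rw [show Cfsg.charDegree (χ : G → ℂ) = Cfsg.Lib.Chars.deg (χ : G → ℂ) from rfl,
      ← Cfsg.Lib.Chars.irr_apply_one_eq_deg χ, ← hρχ, ρ.char_one]
  rw [hdd] at hdvd
  exact hdvd.trans (Cfsg.Agent.S0169.result ρ A hA)

/-- The data. -/
structure Hyp (G : Type u) [Group G] (n : ℕ) : Prop where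
  card : Nat.card G = n
  mem : n ∈ orders
  top : topPrime n ∈ Cfsg.degreePrimes G
  odd : n ∈ [168, 504, 2520, 5616] → oddPrime n ∈ Cfsg.degreePrimes G

namespace Hyp

variable {G : Type u} [Group G] [Finite G] {n : ℕ} (h : Hyp G n) [Fact (topPrime n).Prime]
include h

theorem dvd_card : topPrime n ∣ Nat.card G := by
  rw [h.card]; exact Nat.dvd_of_mod_eq_zero (topPrime_facts n h.mem).2.1

theorem not_sq : ¬ topPrime n * topPrime n ∣ Nat.card G := by
  rw [h.card]; exact fun hd => (topPrime_facts n h.mem).2.2 (Nat.mod_eq_zero_of_dvd hd)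

theorem exists_orderOf : ∃ y : G, orderOf y = topPrime n := exists_prime_orderOf_dvd_card' _ h.dvd_card

variable {y : G} (hy : orderOf y = topPrime n)
include hy

theorem zpowers_not_normal : ¬ (zpowers y).Normal := by
  intro hN
  have h1 := dvd_index_of_mem_degreePrimes h.top (zpowers y) fun a ha b hb => by
    obtain ⟨i, rfl⟩ := ha
    obtain ⟨j, rfl⟩ := hb
    exact ((Commute.refl y).zpow_zpow i j).eq
  refine h.not_sq ?_
  rw [← (zpowers y).card_mul_index, Nat.card_zpowers, hy]
  exact Nat.mul_dvd_mul_left _ h1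

/-- A normal subgroup of order prime to `r` is centralised by the elements of order `r`. -/
theorem normal_le_centralizer (X : Subgroup G) [hXn : X.Normal] (hX : ¬ topPrime n ∣ Nat.card X) :
    X ≤ centralizer ({y} : Set G) := by
  have hyX : y ∈ normalizer (X : Set G) := by rw [normalizer_eq_top]; trivial
  have hXd : Nat.card X ∣ n := h.card ▸ card_subgroup_dvd_card X
  by_cases hrig : ∀ q, q.Prime → Rigid (topPrime n) q ((Nat.card X).factorization q)
  · exact centralizes_of_rigid hy hyX hX hrig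
  by_contra hcent
  push Not at hrig
  obtain ⟨q0, hq0, hbad⟩ := hrig
  simp only [Rigid, not_forall] at hbad
  obtain ⟨i, j, hij, hja, heq⟩ := hbad
  rw [not_not] at heq
  have hqr : ∀ q, q.Prime → 0 < (Nat.card X).factorization q → q ≠ topPrime n := fun q hq hpos e =>
    hX (e ▸ (hq.dvd_iff_one_le_factorization Nat.card_pos.ne').2 hpos)
  have hpow : ∀ q, q.Prime → q ^ (Nat.card X).factorization q ∣ n := fun q hq =>
    ((hq.pow_dvd_iff_le_factorization Nat.card_pos.ne').2 le_rfl).trans hXd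
  obtain ⟨-, -, ha3, hqo, h4, hlist⟩ :=
    rigid_or_special h.mem hq0 (hqr q0 hq0 (by omega)) (hpow q0 hq0) hij hja heq
  have : Fact q0.Prime := ⟨hq0⟩
  have hother : ∀ q, q.Prime → q ≠ q0 → Rigid (topPrime n) q ((Nat.card X).factorization q) := by
    intro q hq hne i j hij hja he
    exact hne (((rigid_or_special h.mem hq (hqr q hq (by omega)) (hpow q hq) hij hja he).2.2.2.1).trans hqo.symm)
  obtain ⟨Q, hQ⟩ := exists_invariant_sylow hy hyX hX q0
  set R := (Q : Subgroup X).map X.subtype with hR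
  have hRc : Nat.card R = q0 ^ 3 := by rw [hR, card_map_sylow Q, ha3]
  obtain ⟨k, hk3, hkc, hkmod⟩ := card_centralizer_congr hy hq0 hRc hQ
  rcases Nat.lt_or_ge k 3 with hk | hk
  swap
  · -- otherwise every prime is centralised
    have hRy : R ≤ centralizer ({y} : Set G) := inf_eq_left.1
      (eq_of_le_of_card_ge inf_le_left (by rw [hkc, hRc]; exact Nat.pow_le_pow_right hq0.pos hk))
    have hall : Nat.card X ∣ Nat.card (X ⊓ centralizer ({y} : Set G) : Subgroup G) := by
      refine (Nat.dvd_iff_prime_pow_dvd_dvd _ _).2 fun q e hq he => ?_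
      by_cases hqq : q = q0
      · subst hqq
        refine ((pow_dvd_pow q ((hq.pow_dvd_iff_le_factorization Nat.card_pos.ne').1 he))).trans ?_
        rw [ha3, ← hRc]
        exact card_dvd_of_le (le_inf (Subgroup.map_subtype_le _) hRy)
      · exact pow_dvd_of_rigid hy hyX hX hq he (hother q hq hqq)
    have hle : X ≤ centralizer ({y} : Set G) := inf_eq_left.1
      (eq_of_le_of_card_ge inf_le_left (Nat.le_of_dvd Nat.card_pos hall))
    exact hcent hle
  have hk0 := (rigid_or_special h.mem hq0 (hqr q0 hq0 (by omega)) (ha3 ▸ hpow q0 hq0) hk le_rfl hkmod).1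
  subst hk0
  rw [pow_zero] at hkc
  have hfix : R ⊓ centralizer ({y} : Set G) = ⊥ := Subgroup.card_eq_one.1 hkc
  have hQn := normal_sylow_of_regular hy hyX hX Q hQ hfix hother
  have hcomm : ∀ u ∈ R, ∀ v ∈ R, u * v = v * u := comm_of_regular hy hRc hQ hfix fun i hi hi3 e => by
    have := (rigid_or_special h.mem hq0 (hqr q0 hq0 (by omega)) (ha3 ▸ hpow q0 hq0) hi (le_of_lt hi3)
      (by rw [pow_zero]; exact e.symm)).2.1
    omega
  have : (Q : Subgroup X).Characteristic := Q.characteristic_of_normal hQn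
  have hRn : R.Normal := by rw [hR]; infer_instance
  have h1 := dvd_index_of_mem_degreePrimes (hqo ▸ h.odd hlist) R hcomm
  refine h4 ?_
  have h2 := R.card_mul_index
  rw [hRc, h.card] at h2
  rw [← h2, pow_succ]
  exact Nat.mul_dvd_mul_left _ h1

end Hyp

end Cfsg.Lib.Small.DegreeGraph
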