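import Cfsg.Agent.Small.DegreeGraph.Reduce.Quotient

/-!
# The normaliser when there are `r + 1` Sylow subgroups
-/

set_option autoImplicit false
set_option linter.unusedSectionVars false

namespace Cfsg.Lib.Small.DegreeGraph

open Subgroup

universe u

namespace Hyp

variable {G : Type u} [Group G] [Finite G] {n : ℕ} (h : Hyp G n) [Fact (topPrime n).Prime]
  {y : G} (hy : orderOf y = topPrime n)
include h hy

theorem exists_sylow : ∃ P : Sylow (topPrime n) G, (P : Subgroup G) = zpowers y := by
  obtain ⟨P, hP⟩ := (isPGroup_zpowers hy).exists_le_sylow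
  refine ⟨P, (eq_of_le_of_card_ge hP ?_).symm⟩
  obtain ⟨k, hk⟩ := IsPGroup.iff_card.1 P.2
  rw [Nat.card_zpowers, hy, hk]
  by_contra hlt
  refine h.not_sq ?_
  have hk2 : 2 ≤ k := by
    by_contra hk2
    exact hlt ((Nat.pow_le_pow_right (Fact.out : (topPrime n).Prime).pos (show k ≤ 1 by omega)).trans_eq
      (pow_one _))
  rw [← pow_two]
  exact (pow_dvd_pow _ hk2).trans (hk ▸ card_subgroup_dvd_card _)

theorem centralizer_eq (hn : Nat.card (Sylow (topPrime n) G) = topPrime n + 1) :
    centralizer ({y} : Set G) = zpowers y ⊔ h.K := by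
  classical
  set r := topPrime n with hr
  obtain ⟨P, hP⟩ := h.exists_sylow hy
  have hPc : Nat.card (P : Subgroup G) = r := by rw [hP, Nat.card_zpowers, hy]
  have hy1 : y ≠ 1 := fun e => (Fact.out : r.Prime).ne_one (by rw [← hy, e, orderOf_one])
  refine le_antisymm (fun c hc => ?_) (sup_le (zpowers_le.2 (mem_centralizer_singleton_iff.2 rfl))
    (h.K_le_centralizer hy))
  have hyP : y ∈ (P : Subgroup G) := hP ▸ mem_zpowers y
  set N := normalizer ((P : Subgroup G) : Set G) with hN
  set L := N.normalCore with hL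
  have hLK : L ≤ h.K := h.le_K L fun hd => by
    obtain ⟨Q, hQ⟩ : ∃ Q : Sylow r G, Q ≠ P := by
      by_contra hall
      push Not at hall
      have : Nat.card (Sylow r G) = 1 := Nat.card_eq_one_iff_unique.2 ⟨⟨fun a b => (hall a).trans (hall b).symm⟩, ⟨P⟩⟩
      have := (Fact.out : r.Prime).two_le
      omega
    refine hQ ?_
    obtain ⟨g, hg⟩ := MulAction.exists_smul_eq G P Q
    refine Cfsg.Lib.Small.sylow_fixed_eq hPc hyP hy1 ?_
    have hyL : y ∈ L := mem_of_normal h.not_sq L hd hy
    have h1 : g⁻¹ * y * g⁻¹⁻¹ ∈ N := hyL g⁻¹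
    rw [inv_inv] at h1
    rw [← hg, ← mul_smul, show y * g = g * (g⁻¹ * y * g) by group, mul_smul,
      Sylow.smul_eq_iff_mem_normalizer.2 h1]
  have hcy : c * y = y * c := mem_centralizer_singleton_iff.1 hc
  obtain ⟨Q0, hQ0⟩ : ∃ Q : Sylow r G, Q ≠ P := by
    by_contra hall
    push Not at hall
    have : Nat.card (Sylow r G) = 1 := Nat.card_eq_one_iff_unique.2 ⟨⟨fun a b => (hall a).trans (hall b).symm⟩, ⟨P⟩⟩
    have := (Fact.out : r.Prime).two_le
    omega
  have hPfix : ∀ k ∈ (P : Subgroup G), k • P = P := fun k hk =>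
    Sylow.smul_eq_iff_mem_normalizer.2 (le_normalizer hk)
  set O := MulAction.orbit (zpowers y) Q0 with hO
  have hOsub : O ⊆ {P}ᶜ := by
    rintro w ⟨⟨k, hk⟩, rfl⟩ hw
    exact hQ0 (smul_left_cancel k ((show k • Q0 = P from hw).trans (hPfix k (hP ▸ hk)).symm))
  have hOall : O = {P}ᶜ := by
    refine Set.eq_of_subset_of_ncard_le hOsub ?_ (Set.toFinite _)
    rw [Set.ncard_compl, Set.ncard_singleton, hn, Nat.add_sub_cancel]
    have hd : O.ncard ∣ r := by
      have := (MulAction.stabilizer (zpowers y) Q0).index_mul_card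
      rw [MulAction.index_stabilizer, Nat.card_zpowers, hy] at this
      exact Dvd.intro _ this
    rcases (Nat.dvd_prime Fact.out).1 hd with e | e
    · exfalso
      obtain ⟨w, hw⟩ := Set.ncard_eq_one.1 e
      have h1 : (⟨y, mem_zpowers y⟩ : zpowers y) • Q0 ∈ O := MulAction.mem_orbit _ _
      have h2 : Q0 ∈ O := MulAction.mem_orbit_self _
      rw [hw, Set.mem_singleton_iff] at h1 h2
      exact hQ0 (Cfsg.Lib.Small.sylow_fixed_eq hPc hyP hy1 (show y • Q0 = Q0 from h1.trans h2.symm))
    · exact e.ge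
  have hcP : c • P = P := Sylow.smul_eq_iff_mem_normalizer.2 (by
    show c ∈ normalizer ((P : Subgroup G) : Set G)
    rw [show normalizer ((P : Subgroup G) : Set G) = normalizer (zpowers y : Set G) by rw [hP]]
    refine Subgroup.centralizer_le_normalizer _ ?_
    rw [zpowers_eq_closure, centralizer_closure]
    exact hc)
  have hmem : c • Q0 ∈ O := by
    rw [hOall]
    exact fun e => hQ0 (smul_left_cancel c ((show c • Q0 = P from e).trans hcP.symm))
  obtain ⟨⟨g, hg⟩, hgQ⟩ := hmem
  have hgQ' : g • Q0 = c • Q0 := hgQ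
  have hu : g⁻¹ * c ∈ L := by
    intro a
    show a * (g⁻¹ * c) * a⁻¹ ∈ N
    refine Sylow.smul_eq_iff_mem_normalizer.1 ?_
    rw [mul_smul, mul_smul]
    suffices hfix : ∀ Q : Sylow r G, (g⁻¹ * c) • Q = Q by rw [hfix, smul_inv_smul]
    intro Q
    by_cases hQ : Q = P
    · rw [hQ, mul_smul, hcP, hPfix _ (hP ▸ inv_mem hg)]
    · have hQO : Q ∈ O := by rw [hOall]; exact hQ
      obtain ⟨⟨k, hk⟩, rfl⟩ := hQO
      show (g⁻¹ * c) • k • Q0 = k • Q0
      obtain ⟨i, rfl⟩ := hk
      obtain ⟨j, rfl⟩ := hg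
      have hcomm : (y ^ j)⁻¹ * c * y ^ i = y ^ i * ((y ^ j)⁻¹ * c) := by
        have h1 : Commute c (y ^ i) := (show Commute c y from hcy).zpow_right i
        have h2 : Commute ((y ^ j)⁻¹) (y ^ i) := ((Commute.refl y).zpow_zpow j i).inv_left
        exact (h2.mul_left h1).eq
      rw [← mul_smul, hcomm, mul_smul, mul_smul, ← hgQ', inv_smul_smul]
  have := mul_mem (mem_sup_left (T := h.K) hg) (mem_sup_right (S := zpowers y) (hLK hu))
  rwa [mul_inv_cancel_left] at this

/-- The order of the group in terms of that of `K`. -/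
theorem card_eq_of_count (hn : Nat.card (Sylow (topPrime n) G) = topPrime n + 1) :
    ∃ d, d ∣ topPrime n - 1 ∧ Nat.card (centralizer ({y} : Set G)) = topPrime n * Nat.card h.K ∧
      (centralizer ({y} : Set G)).relIndex (normalizer (zpowers y : Set G)) = d ∧
      n = (topPrime n + 1) * (topPrime n * Nat.card h.K * d) := by
  classical
  obtain ⟨P, hP⟩ := h.exists_sylow hy
  have hC : Nat.card (centralizer ({y} : Set G)) = topPrime n * Nat.card h.K := by
    have hcop := (Fact.out : (topPrime n).Prime).coprime_iff_not_dvd.2 h.not_dvd_K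
    have hK := h.K_normal
    have h1 := Cfsg.Lib.Coprime.card_sup_mul_card_inf (G := G) (N := h.K) (H := zpowers y)
      (by rw [normalizer_eq_top]; exact le_top)
    have h2 : h.K ⊓ zpowers y = ⊥ := Subgroup.inf_eq_bot_of_coprime (by
      rw [Nat.card_zpowers, hy]; exact hcop.symm)
    rw [h2, card_bot, mul_one, Nat.card_zpowers, hy, sup_comm, ← h.centralizer_eq hy hn] at h1
    rw [h1, mul_comm]
  have hcz : centralizer (zpowers y : Set G) = centralizer ({y} : Set G) := by
    rw [zpowers_eq_closure, centralizer_closure]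
  refine ⟨(centralizer ({y} : Set G)).relIndex (normalizer (zpowers y : Set G)), ?_, hC, rfl, ?_⟩
  · rw [← hcz]
    exact Cfsg.Lib.Small.relIndex_centralizer_dvd (p := topPrime n) (by rw [Nat.card_zpowers, hy]) le_rfl
  · have h1 := Cfsg.Lib.Small.card_normalizer_mul P
    rw [hn, h.card, show normalizer ((P : Subgroup G) : Set G) = normalizer (zpowers y : Set G) by rw [hP],
      ← Subgroup.card_mul_index ((centralizer ({y} : Set G)).subgroupOf (normalizer (zpowers y : Set G))),
      Nat.card_congr (subgroupOfEquivOfLe (hcz ▸ Subgroup.centralizer_le_normalizer _ :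
        centralizer ({y} : Set G) ≤ normalizer (zpowers y : Set G))).toEquiv, hC] at h1
    refine h1.symm.trans ?_
    rw [Subgroup.relIndex]
    ring

end Hyp

end Cfsg.Lib.Small.DegreeGraph
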