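import Cfsg.Agent.Small.DegreeGraph.Reduce.Core
import Cfsg.Agent.Coprime.Sylow

/-!
# The simple section generated by the elements of order `r`
-/

set_option autoImplicit false
set_option linter.unusedSectionVars false

namespace Cfsg.Lib.Small.DegreeGraph

open Subgroup

universe u

namespace Hyp

variable {G : Type u} [Group G] [Finite G] {n : ℕ} (h : Hyp G n) [Fact (topPrime n).Prime]

/-- The largest normal subgroup of order prime to `r`. -/
noncomputable abbrev K (_h : Hyp G n) : Subgroup G := Cfsg.pPrimeCore (topPrime n) G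

/-- The subgroup generated by the conjugates of an element. -/
noncomputable abbrev M (_h : Hyp G n) (y : G) : Subgroup G := normalClosure {y}

include h

theorem not_dvd_K : ¬ topPrime n ∣ Nat.card h.K := fun hd =>
  (Fact.out : (topPrime n).Prime).coprime_iff_not_dvd.1
    (Cfsg.Lib.Components.coprime_card_pPrimeCore (topPrime n)).symm hd

theorem K_normal : h.K.Normal := Cfsg.Lib.Components.pPrimeCore_normal' _

theorem le_K (X : Subgroup G) [X.Normal] (hX : ¬ topPrime n ∣ Nat.card X) : X ≤ h.K :=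
  Cfsg.Lib.Components.le_pPrimeCore (((Fact.out : (topPrime n).Prime).coprime_iff_not_dvd.2 hX).symm)

variable {y : G} (hy : orderOf y = topPrime n)
include hy

theorem M_le (X : Subgroup G) [X.Normal] (hX : topPrime n ∣ Nat.card X) : h.M y ≤ X :=
  normalClosure_le_normal (Set.singleton_subset_iff.2 (mem_of_normal h.not_sq X hX hy))

theorem K_le_centralizer : h.K ≤ centralizer ({y} : Set G) := by
  have := h.K_normal
  exact h.normal_le_centralizer hy h.K h.not_dvd_K

theorem M_comm_K {m k : G} (hm : m ∈ h.M y) (hk : k ∈ h.K) : m * k = k * m := by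
  have := h.K_normal
  have hle : h.M y ≤ centralizer (h.K : Set G) := normalClosure_le_normal (Set.singleton_subset_iff.2
    (mem_centralizer_iff.2 fun k hk => mem_centralizer_singleton_iff.1 (h.K_le_centralizer hy hk)))
  exact (mem_centralizer_iff.1 (hle hm) k hk).symm

theorem y_mem_M : y ∈ h.M y := subset_normalClosure rfl

theorem dvd_card_M : topPrime n ∣ Nat.card (h.M y) := hy ▸ Subgroup.orderOf_dvd_natCard _ (h.y_mem_M hy)

/-- A normal subgroup of `M` is inside `K` or everything. -/
theorem normal_M : (∀ Y : Subgroup (h.M y), Y.Normal → topPrime n ∣ Nat.card Y → Y = ⊤) ∧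
    ∀ Y : Subgroup (h.M y), Y.Normal → ¬ topPrime n ∣ Nat.card Y →
      Y ≤ (h.K ⊓ h.M y).subgroupOf (h.M y) := by
  classical
  have hK := h.K_normal
  set r := topPrime n with hr
  set M := h.M y with hM
  set Z := (h.K ⊓ M).subgroupOf M with hZ
  have hsqM : ¬ r * r ∣ Nat.card M := fun hd => h.not_sq (hd.trans (card_subgroup_dvd_card M))
  have hgen : ∀ Y : Subgroup M, Y.Normal → r ∣ Nat.card Y → Y = ⊤ := by
    intro Y hY hd
    rw [eq_top_iff]
    rintro ⟨g, hg⟩ -
    suffices hle : M ≤ Y.map M.subtype by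
      obtain ⟨x, hx, hxg⟩ := hle hg
      rwa [show (⟨g, hg⟩ : M) = x from Subtype.ext hxg.symm]
    show closure (Group.conjugatesOfSet {y}) ≤ Y.map M.subtype
    refine (closure_le _).2 fun x hx => ?_
    obtain ⟨a, rfl, hax⟩ := Group.mem_conjugatesOfSet_iff.1 hx
    obtain ⟨c, hc⟩ := isConj_iff.1 hax
    have hxo : orderOf x = r := by
      rw [← hc, show c * a * c⁻¹ = MulAut.conj c a from rfl, MulEquiv.orderOf_eq, hy]
    have hxM : x ∈ M := subset_closure hx
    have := mem_of_normal hsqM Y hd (y := (⟨x, hxM⟩ : M)) (by rw [← Subgroup.orderOf_coe]; exact hxo)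
    exact ⟨_, this, rfl⟩
  have hcore : ∀ Y : Subgroup M, Y.Normal → ¬ r ∣ Nat.card Y → Y ≤ Z := by
    intro Y hY hd
    set W := Cfsg.pPrimeCore r M with hW
    have hWn : W.Normal := Cfsg.Lib.Components.pPrimeCore_normal' _
    have hWd : ¬ r ∣ Nat.card W := fun hd =>
      (Fact.out : r.Prime).coprime_iff_not_dvd.1 (Cfsg.Lib.Components.coprime_card_pPrimeCore r).symm hd
    have hYW : Y ≤ W := Cfsg.Lib.Components.le_pPrimeCore
      (((Fact.out : r.Prime).coprime_iff_not_dvd.2 hd).symm)
    have hWG : (W.map M.subtype).Normal := ⟨fun x hx g => by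
      obtain ⟨w, hw, rfl⟩ := hx
      let φ : MulAut M := MulAut.conjNormal g
      have hn : (W.map φ.toMonoidHom).Normal := hWn.map _ φ.surjective
      have hle : W.map φ.toMonoidHom ≤ W := Cfsg.Lib.Components.le_pPrimeCore
        (by
          rw [Subgroup.card_map_of_injective (by exact φ.injective)]
          exact Cfsg.Lib.Components.coprime_card_pPrimeCore r)
      exact ⟨φ w, hle ⟨w, hw, rfl⟩, MulAut.conjNormal_apply g w⟩⟩
    have hle : W.map M.subtype ≤ h.K := h.le_K _ (by
      rwa [← Nat.card_congr (W.equivMapOfInjective _ M.subtype_injective).toEquiv])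
    intro x hx
    exact mem_subgroupOf.2 ⟨hle ⟨x, hYW hx, rfl⟩, x.2⟩
  exact ⟨hgen, hcore⟩

/-- The section `M/(M ⊓ K)` is a non-abelian simple group, so its order is in the list. -/
theorem section_order : ∃ t ∈ orders, topPrime n ∣ t ∧
    Nat.card (h.M y) = t * Nat.card (h.K ⊓ h.M y : Subgroup G) ∧
    Nat.card (h.K ⊔ h.M y : Subgroup G) = Nat.card h.K * t ∧
    ∀ P : Sylow (topPrime n) G, Nat.card (Sylow (topPrime n) G) * topPrime n ∣ t := by
  classical
  have hK := h.K_normal
  set r := topPrime n with hr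
  set M := h.M y with hM
  set Z := (h.K ⊓ M).subgroupOf M with hZ
  have hZn : Z.Normal := Subgroup.Normal.subgroupOf inferInstance M
  have hZc : Nat.card Z = Nat.card (h.K ⊓ M : Subgroup G) :=
    Nat.card_congr (subgroupOfEquivOfLe inf_le_right).toEquiv
  have hcard : Nat.card M = Nat.card (M ⧸ Z) * Nat.card (h.K ⊓ M : Subgroup G) := by
    rw [← hZc]
    exact Subgroup.card_eq_card_quotient_mul_card_subgroup Z
  have hrZ : ¬ r ∣ Nat.card (h.K ⊓ M : Subgroup G) := fun hd =>
    h.not_dvd_K (hd.trans (card_dvd_of_le inf_le_left))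
  have hrT : r ∣ Nat.card (M ⧸ Z) :=
    ((Fact.out : r.Prime).dvd_mul.1 (hcard ▸ h.dvd_card_M hy)).resolve_right hrZ
  have hsqM : ¬ r * r ∣ Nat.card M := fun hd => h.not_sq (hd.trans (card_subgroup_dvd_card M))
  obtain ⟨hgen, hcore⟩ : (∀ Y : Subgroup M, Y.Normal → r ∣ Nat.card Y → Y = ⊤) ∧
      ∀ Y : Subgroup M, Y.Normal → ¬ r ∣ Nat.card Y → Y ≤ Z := h.normal_M hy
  have hnt : Nontrivial (M ⧸ Z) := Finite.one_lt_card_iff_nontrivial.1
    (lt_of_lt_of_le (Fact.out : r.Prime).one_lt (Nat.le_of_dvd Nat.card_pos hrT))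
  have hsimple : IsSimpleGroup (M ⧸ Z) := ⟨fun N hN => by
    set Y := N.comap (QuotientGroup.mk' Z) with hY
    have hYn : Y.Normal := hN.comap _
    have hmap : Y.map (QuotientGroup.mk' Z) = N :=
      Subgroup.map_comap_eq_self_of_surjective (QuotientGroup.mk'_surjective Z) N
    by_cases hd : r ∣ Nat.card Y
    · right
      rw [← hmap, hgen Y hYn hd, Subgroup.map_top_of_surjective _ (QuotientGroup.mk'_surjective Z)]
    · left
      rw [← hmap, Subgroup.map_eq_bot_iff, QuotientGroup.ker_mk']
      exact hcore Y hYn hd⟩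
  have hnc : ¬ IsMulCommutative (M ⧸ Z) := fun hc => by
    -- otherwise `y` would generate a normal subgroup
    let _ : CommGroup (M ⧸ Z) := { (inferInstance : Group (M ⧸ Z)) with mul_comm := hc.is_comm.comm }
    have hp : (Nat.card (M ⧸ Z)).Prime := IsSimpleGroup.prime_card
    have hT : Nat.card (M ⧸ Z) = r := ((Nat.prime_dvd_prime_iff_eq Fact.out hp).1 hrT).symm
    set S := zpowers y ⊔ (h.K ⊓ M) with hS
    have hyM := h.y_mem_M hy
    have hle : S ≤ M := sup_le (zpowers_le.2 hyM) inf_le_right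
    have hd1 : r * Nat.card (h.K ⊓ M : Subgroup G) ∣ Nat.card S :=
      Nat.Coprime.mul_dvd_of_dvd_of_dvd ((Fact.out : r.Prime).coprime_iff_not_dvd.2 hrZ)
        (hy ▸ Subgroup.orderOf_dvd_natCard S (mem_sup_left (mem_zpowers y)))
        (card_dvd_of_le le_sup_right)
    have hSM : S = M := eq_of_le_of_card_ge hle (by
      rw [hcard, hT]; exact Nat.le_of_dvd Nat.card_pos hd1)
    have hycen : M ≤ centralizer ({y} : Set G) := hSM ▸ sup_le
      (zpowers_le.2 (mem_centralizer_singleton_iff.2 rfl)) (inf_le_left.trans (h.K_le_centralizer hy))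
    refine h.zpowers_not_normal hy ⟨fun x hx g => ?_⟩
    obtain ⟨k, rfl⟩ := hx
    have hgy : g * y * g⁻¹ ∈ M := Subgroup.Normal.conj_mem inferInstance y hyM g
    have hoy : orderOf (⟨y, hyM⟩ : M) = r := by rw [← Subgroup.orderOf_coe]; exact hy
    have hogy : orderOf (⟨g * y * g⁻¹, hgy⟩ : M) = r := by
      rw [← Subgroup.orderOf_coe]
      show orderOf (MulAut.conj g y) = r
      rw [MulEquiv.orderOf_eq, hy]
    have hn : (zpowers (⟨y, hyM⟩ : M)).Normal := ⟨fun a ha c => by
      obtain ⟨j, rfl⟩ := ha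
      refine ⟨j, Subtype.ext ?_⟩
      have hcy : (c : G) * y = y * (c : G) := mem_centralizer_singleton_iff.1 (hycen c.2)
      show ((⟨y, hyM⟩ : M) ^ j : M).1 = ((c * (⟨y, hyM⟩ : M) ^ j * c⁻¹ : M) : G)
      rw [Subgroup.coe_mul, Subgroup.coe_mul, Subgroup.coe_zpow, Subgroup.coe_inv,
        (Commute.zpow_right (show Commute (c : G) y from hcy) j).eq, mul_inv_cancel_right]⟩
    obtain ⟨j, hj⟩ := mem_of_normal hsqM (zpowers (⟨y, hyM⟩ : M))
      (by rw [Nat.card_zpowers, hoy]) hogy
    refine ⟨j * k, ?_⟩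
    have hj' : y ^ j = g * y * g⁻¹ := congrArg Subtype.val hj
    show y ^ (j * k) = g * y ^ k * g⁻¹
    rw [zpow_mul, hj', conj_zpow]
  have hlt : Nat.card (M ⧸ Z) < 6000 := by
    have h1 : Nat.card (M ⧸ Z) ≤ Nat.card M := hcard ▸ Nat.le_mul_of_pos_right _ Nat.card_pos
    have h2 : Nat.card M ≤ Nat.card G := Subgroup.card_le_card_group M
    rw [h.card] at h2
    have := (orders_dvd n h.mem).2.1
    omega
  refine ⟨Nat.card (M ⧸ Z), card_mem_of_lt hnc hlt, hrT, hcard, ?_, ?_⟩
  · have h1 := Cfsg.Lib.Coprime.card_sup_mul_card_inf (G := G) (N := h.K) (H := M)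
      (by rw [normalizer_eq_top]; exact le_top)
    rw [hcard, ← mul_assoc] at h1
    exact Nat.eq_of_mul_eq_mul_right Nat.card_pos h1
  · intro P
    obtain ⟨w, hw⟩ := exists_prime_orderOf_dvd_card' (G := M) r (h.dvd_card_M hy)
    set N := normalizer ((P : Subgroup G) : Set G) with hN
    have hPc : Nat.card (P : Subgroup G) = r := by
      rw [P.card_eq_multiplicity]
      have h0 : 0 < (Nat.card G).factorization r :=
        (Fact.out : r.Prime).factorization_pos_of_dvd Nat.card_pos.ne' h.dvd_card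
      have : (Nat.card G).factorization r < 2 := by
        by_contra hge
        exact h.not_sq (by
          rw [← pow_two]
          exact ((Fact.out : r.Prime).pow_dvd_iff_le_factorization Nat.card_pos.ne').2 (not_lt.1 hge))
      rw [show (Nat.card G).factorization r = 1 by omega, pow_one]
    have hPM : (P : Subgroup G) ≤ M := by
      intro x hx
      rcases eq_or_ne x 1 with rfl | hx1
      · exact one_mem M
      have hxo : orderOf x = r := ((Nat.dvd_prime Fact.out).1 (hPc ▸ Subgroup.orderOf_dvd_natCard _ hx)).resolve_left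
        (fun e => hx1 (orderOf_eq_one_iff.1 e))
      exact mem_of_normal h.not_sq M (h.dvd_card_M hy) hxo
    have htop : M ⊔ N = ⊤ := by
      have := Sylow.normalizer_sup_eq_top (N := M) (P.subtype hPM)
      rw [show ((P.subtype hPM : Sylow r M) : Subgroup M).map M.subtype = (P : Subgroup G) from
        (Subgroup.map_subgroupOf_eq_of_le hPM)] at this
      rw [sup_comm]
      exact this
    have h1 := Cfsg.Lib.Coprime.card_sup_mul_card_inf (G := G) (N := M) (H := N)
      (by rw [normalizer_eq_top]; exact le_top)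
    rw [htop, card_top, ← Cfsg.Lib.Small.card_normalizer_mul P, ← hN] at h1
    have h2 : Nat.card (Sylow r G) * Nat.card (M ⊓ N : Subgroup G) = Nat.card M :=
      Nat.eq_of_mul_eq_mul_left (Nat.card_pos (α := N)) (by rw [← mul_assoc, h1, mul_comm])
    have h3 : r * Nat.card (h.K ⊓ M : Subgroup G) ∣ Nat.card (M ⊓ N : Subgroup G) := by
      refine Nat.Coprime.mul_dvd_of_dvd_of_dvd ((Fact.out : r.Prime).coprime_iff_not_dvd.2 hrZ) ?_ ?_
      · exact hPc ▸ card_dvd_of_le (le_inf hPM le_normalizer)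
      · refine card_dvd_of_le (le_inf inf_le_right fun k hk => Subgroup.centralizer_le_normalizer _ ?_)
        rw [mem_centralizer_iff]
        exact fun x hx => h.M_comm_K hy (hPM hx) hk.1
    refine (Nat.mul_dvd_mul_iff_right (Nat.card_pos (α := (h.K ⊓ M : Subgroup G)))).1 ?_
    rw [← hcard, ← h2, mul_assoc]
    exact Nat.mul_dvd_mul_left _ h3

/-- A normal subgroup not in `K` contains `M`. -/
theorem le_or_le (X : Subgroup G) [X.Normal] : X ≤ h.K ∨ h.M y ≤ X := by
  by_cases hX : topPrime n ∣ Nat.card X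
  · exact Or.inr (h.M_le hy X hX)
  · exact Or.inl (h.le_K X hX)

/-- If the section is everything the group is simple. -/
theorem simple_of_eq {t : ℕ} (ht : t = n) (hM : Nat.card (h.M y) = t * Nat.card (h.K ⊓ h.M y : Subgroup G)) :
    IsSimpleGroup G := by
  subst ht
  have hle : Nat.card (h.M y) ≤ Nat.card G := Subgroup.card_le_card_group _
  have hpos : 0 < Nat.card (h.K ⊓ h.M y : Subgroup G) := Nat.card_pos
  have hn1 := (orders_dvd _ h.mem).2.2
  rw [h.card] at hle
  have h1 : Nat.card (h.K ⊓ h.M y : Subgroup G) = 1 := by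
    by_contra hne
    have := Nat.mul_le_mul_left t (show 2 ≤ Nat.card (h.K ⊓ h.M y : Subgroup G) by omega)
    omega
  have htop : h.M y = ⊤ := Subgroup.eq_top_of_card_eq _ (by rw [hM, h1, mul_one, h.card])
  rw [htop, inf_top_eq] at h1
  have : Nontrivial G := Finite.one_lt_card_iff_nontrivial.1 (h.card.symm ▸ hn1)
  refine ⟨fun X hX => ?_⟩
  rcases h.le_or_le hy X with hle | hle
  · exact Or.inl (le_bot_iff.1 (hle.trans_eq (Subgroup.card_eq_one.1 h1)))
  · exact Or.inr (top_le_iff.1 (htop ▸ hle))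

/-- The quotient by `K` is simple when `K ⊔ M` is everything. -/
theorem quotient_simple (htop : h.K ⊔ h.M y = ⊤) :
    haveI := h.K_normal; IsSimpleGroup (G ⧸ h.K) := by
  have := h.K_normal
  have hnt : Nontrivial (G ⧸ h.K) := by
    refine Finite.one_lt_card_iff_nontrivial.1 ?_
    rw [← Subgroup.index_eq_card]
    refine Subgroup.one_lt_index_of_ne_top fun e => h.not_dvd_K ?_
    rw [e, card_top]
    exact h.dvd_card
  refine ⟨fun X hX => ?_⟩
  set Y := X.comap (QuotientGroup.mk' h.K)
  have hmap : Y.map (QuotientGroup.mk' h.K) = X :=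
    Subgroup.map_comap_eq_self_of_surjective (QuotientGroup.mk'_surjective _) X
  have : Y.Normal := hX.comap _
  rcases h.le_or_le hy Y with hle | hle
  · left
    rw [← hmap, Subgroup.map_eq_bot_iff, QuotientGroup.ker_mk']
    exact hle
  · right
    have hKY : h.K ≤ Y := fun k hk => by
      show QuotientGroup.mk' h.K k ∈ X
      rw [show QuotientGroup.mk' h.K k = 1 from (QuotientGroup.eq_one_iff k).2 hk]
      exact one_mem X
    rw [← hmap, show Y = ⊤ from top_le_iff.1 (htop ▸ sup_le hKY hle),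
      Subgroup.map_top_of_surjective _ (QuotientGroup.mk'_surjective _)]

end Hyp

end Cfsg.Lib.Small.DegreeGraph
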