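import Cfsg.Agent.Small.Toolkit
import Mathlib.GroupTheory.PGroup

/-!
# An element of prime order acting on a group of prime-to-it order

Such an element fixes a Sylow subgroup for each prime; it centralises it when the powers of that prime
are distinct modulo the order of the element.
-/

set_option autoImplicit false
set_option linter.unusedSectionVars false

namespace Cfsg.Lib.Small.DegreeGraph

open Subgroup
open scoped Pointwise

universe u

/-- The powers of `q` up to the exponent `a` are distinct modulo `r`. -/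
def Rigid (r q a : ℕ) : Prop := ∀ i j, i < j → j ≤ a → q ^ i % r ≠ q ^ j % r

variable {G : Type u} [Group G] [Finite G] {r : ℕ} [Fact r.Prime]

omit [Finite G] in
theorem isPGroup_zpowers {y : G} (hy : orderOf y = r) : IsPGroup r (zpowers y) :=
  IsPGroup.of_card (n := 1) (by rw [Nat.card_zpowers, hy, pow_one])

/-- The fixed points of `y` on a `q`-subgroup. -/
theorem card_centralizer_congr {y : G} (hy : orderOf y = r) {q j : ℕ} (hq : q.Prime) {Q : Subgroup G}
    (hQ : Nat.card Q = q ^ j) (hyQ : y ∈ normalizer (Q : Set G)) :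
    ∃ i ≤ j, Nat.card (Q ⊓ centralizer ({y} : Set G) : Subgroup G) = q ^ i ∧ q ^ i % r = q ^ j % r := by
  classical
  obtain ⟨i, hij, hi⟩ := (Nat.dvd_prime_pow hq).1
    (hQ ▸ card_dvd_of_le (inf_le_left : Q ⊓ centralizer ({y} : Set G) ≤ Q))
  refine ⟨i, hij, hi, ?_⟩
  have hle : zpowers y ≤ normalizer (Q : Set G) := zpowers_le.2 hyQ
  let act : MulAction (zpowers y) Q :=
    { smul := fun g n => ⟨(g : G) * n * (g : G)⁻¹, (mem_normalizer_iff.1 (hle g.2) n).1 n.2⟩
      one_smul := fun n => Subtype.ext (show ((1 : zpowers y) : G) * n * ((1 : zpowers y) : G)⁻¹ = n by simp)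
      mul_smul := fun a b n => Subtype.ext (show ((a * b : zpowers y) : G) * n * ((a * b : zpowers y) : G)⁻¹ =
        (a : G) * ((b : G) * n * (b : G)⁻¹) * (a : G)⁻¹ by rw [Subgroup.coe_mul]; group) }
  have h := (isPGroup_zpowers hy).card_modEq_card_fixedPoints Q
  rw [Nat.card_congr (α := MulAction.fixedPoints (zpowers y) Q)
    (β := (Q ⊓ centralizer ({y} : Set G) : Subgroup G))
    { toFun := fun n => ⟨((n.1 : Q) : G), n.1.2, mem_centralizer_singleton_iff.2
        ((mul_inv_eq_iff_eq_mul.1 (congrArg Subtype.val (n.2 ⟨y, mem_zpowers y⟩))).symm)⟩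
      invFun := fun n => ⟨⟨n.1, n.2.1⟩, fun g => Subtype.ext (mul_inv_eq_iff_eq_mul.2 (by
        obtain ⟨k, hk⟩ := g.2
        show (g : G) * (n : G) = (n : G) * (g : G)
        rw [← hk]
        exact ((Commute.zpow_right (mem_centralizer_singleton_iff.1 n.2.2) k).symm).eq))⟩
      left_inv := fun n => rfl
      right_inv := fun n => rfl }, hQ, hi] at h
  exact h.symm

/-- A fixed Sylow subgroup. -/
theorem exists_invariant_sylow {y : G} (hy : orderOf y = r) {X : Subgroup G}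
    (hyX : y ∈ normalizer (X : Set G)) (hX : ¬ r ∣ Nat.card X) (q : ℕ) [Fact q.Prime] :
    ∃ Q : Sylow q X, y ∈ normalizer (((Q : Subgroup X).map X.subtype : Subgroup G) : Set G) := by
  classical
  have hle : zpowers y ≤ normalizer (X : Set G) := zpowers_le.2 hyX
  let act : MulDistribMulAction (zpowers y) X :=
    { smul := fun g n => ⟨(g : G) * n * (g : G)⁻¹, (mem_normalizer_iff.1 (hle g.2) n).1 n.2⟩
      one_smul := fun n => Subtype.ext (show ((1 : zpowers y) : G) * n * ((1 : zpowers y) : G)⁻¹ = n by simp)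
      mul_smul := fun a b n => Subtype.ext (show ((a * b : zpowers y) : G) * n * ((a * b : zpowers y) : G)⁻¹ =
        (a : G) * ((b : G) * n * (b : G)⁻¹) * (a : G)⁻¹ by rw [Subgroup.coe_mul]; group)
      smul_mul := fun g m n => Subtype.ext (show (g : G) * ((m : G) * n) * (g : G)⁻¹ =
        (g : G) * m * (g : G)⁻¹ * ((g : G) * n * (g : G)⁻¹) by group)
      smul_one := fun g => Subtype.ext (show (g : G) * ((1 : X) : G) * (g : G)⁻¹ = ((1 : X) : G) by simp) }
  obtain ⟨Q0⟩ : Nonempty (Sylow q X) := inferInstance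
  obtain ⟨Q, hQ⟩ := (isPGroup_zpowers hy).nonempty_fixed_point_of_prime_not_dvd_card (Sylow q X)
    (fun h => hX (h.trans (Q0.card_dvd_index.trans (Subgroup.index_dvd_card _))))
  refine ⟨Q, mem_normalizer_iff.2 fun n => ?_⟩
  have hmem : ∀ g : zpowers y, ∀ n : X, n ∈ (Q : Subgroup X) → g • n ∈ (Q : Subgroup X) := fun g n hn => by
    have h' : g • n ∈ ((g • Q : Sylow q X) : Subgroup X) := by
      rw [Sylow.pointwise_smul_def]
      exact Subgroup.smul_mem_pointwise_smul _ g _ hn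
    rwa [hQ g] at h'
  constructor
  · rintro ⟨m, hm, rfl⟩
    exact ⟨_, hmem ⟨y, mem_zpowers y⟩ m hm, rfl⟩
  · rintro ⟨m, hm, hmy⟩
    refine ⟨_, hmem ⟨y, mem_zpowers y⟩⁻¹ m hm, ?_⟩
    show y⁻¹ * (m : G) * y⁻¹⁻¹ = n
    rw [show (m : G) = y * n * y⁻¹ from hmy]
    group

omit [Finite G] in
theorem card_map_sylow {X : Subgroup G} [Finite X] {q : ℕ} [Fact q.Prime] (Q : Sylow q X) :
    Nat.card ((Q : Subgroup X).map X.subtype : Subgroup G) = q ^ (Nat.card X).factorization q := by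
  rw [← Nat.card_congr ((Q : Subgroup X).equivMapOfInjective _ X.subtype_injective).toEquiv,
    Q.card_eq_multiplicity]

/-- For a rigid prime the centraliser of `y` contains the full prime power. -/
theorem pow_dvd_of_rigid {y : G} (hy : orderOf y = r) {X : Subgroup G}
    (hyX : y ∈ normalizer (X : Set G)) (hX : ¬ r ∣ Nat.card X) {q k : ℕ} (hq : q.Prime)
    (hk : q ^ k ∣ Nat.card X) (hrig : Rigid r q ((Nat.card X).factorization q)) :
    q ^ k ∣ Nat.card (X ⊓ centralizer ({y} : Set G) : Subgroup G) := by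
  have : Fact q.Prime := ⟨hq⟩
  obtain ⟨Q, hQ⟩ := exists_invariant_sylow hy hyX hX q
  obtain ⟨i, hij, hi, hmod⟩ := card_centralizer_congr hy hq (card_map_sylow Q) hQ
  have hie : i = (Nat.card X).factorization q := by
    by_contra hne
    exact hrig i _ (lt_of_le_of_ne hij hne) le_rfl hmod
  refine ((pow_dvd_pow q ((hq.pow_dvd_iff_le_factorization Nat.card_pos.ne').1 hk)).trans ?_)
  rw [← hie, ← hi]
  exact card_dvd_of_le (inf_le_inf_right _ (Subgroup.map_subtype_le _))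

/-- If every prime is rigid, `y` centralises the subgroup. -/
theorem centralizes_of_rigid {y : G} (hy : orderOf y = r) {X : Subgroup G}
    (hyX : y ∈ normalizer (X : Set G)) (hX : ¬ r ∣ Nat.card X)
    (hrig : ∀ q, q.Prime → Rigid r q ((Nat.card X).factorization q)) :
    X ≤ centralizer ({y} : Set G) := by
  have h : Nat.card X ∣ Nat.card (X ⊓ centralizer ({y} : Set G) : Subgroup G) :=
    (Nat.dvd_iff_prime_pow_dvd_dvd _ _).2 fun q k hq hk => pow_dvd_of_rigid hy hyX hX hq hk (hrig q hq)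
  have he : X ⊓ centralizer ({y} : Set G) = X :=
    eq_of_le_of_card_ge inf_le_left (Nat.le_of_dvd Nat.card_pos h)
  exact inf_eq_left.1 he

/-- If `y` fixes no element of an invariant Sylow subgroup and all other primes are rigid, that
subgroup is normal. -/
theorem normal_sylow_of_regular {y : G} (hy : orderOf y = r) {X : Subgroup G}
    (hyX : y ∈ normalizer (X : Set G)) (hX : ¬ r ∣ Nat.card X) {q0 : ℕ} [Fact q0.Prime]
    (Q : Sylow q0 X) (hQ : y ∈ normalizer (((Q : Subgroup X).map X.subtype : Subgroup G) : Set G))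
    (hfix : (Q : Subgroup X).map X.subtype ⊓ centralizer ({y} : Set G) = ⊥)
    (hrig : ∀ q, q.Prime → q ≠ q0 → Rigid r q ((Nat.card X).factorization q)) :
    (Q : Subgroup X).Normal := by
  classical
  set a := (Nat.card X).factorization q0
  set R := (Q : Subgroup X).map X.subtype with hR
  set C := X ⊓ centralizer ({y} : Set G) with hC
  have hdvd : Nat.card X ∣ Nat.card C * Nat.card R := by
    refine (Nat.dvd_iff_prime_pow_dvd_dvd _ _).2 fun q k hq hk => ?_
    by_cases h : q = q0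
    · subst h
      refine dvd_mul_of_dvd_right ?_ _
      rw [hR, card_map_sylow Q]
      exact pow_dvd_pow q ((hq.pow_dvd_iff_le_factorization Nat.card_pos.ne').1 hk)
    · exact dvd_mul_of_dvd_left (pow_dvd_of_rigid hy hyX hX hq hk (hrig q hq h)) _
  have hdisj : C ⊓ R = ⊥ :=
    le_bot_iff.1 (hfix ▸ le_inf inf_le_right (inf_le_left.trans inf_le_right))
  let f : C × R → X := fun x =>
    ⟨(x.1 : G) * x.2, mul_mem x.1.2.1 (Subgroup.map_subtype_le _ x.2.2)⟩
  have hinj : Function.Injective f := fun x z h => by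
    have h' : (x.1 : G) * x.2 = (z.1 : G) * z.2 := congrArg Subtype.val h
    have hm : (z.1 : G)⁻¹ * x.1 ∈ C ⊓ R := Subgroup.mem_inf.2 ⟨mul_mem (inv_mem z.1.2) x.1.2, by
      rw [show (z.1 : G)⁻¹ * x.1 = (z.2 : G) * (x.2 : G)⁻¹ by
        rw [eq_mul_inv_iff_mul_eq, mul_assoc, h', inv_mul_cancel_left]]
      exact mul_mem z.2.2 (inv_mem x.2.2)⟩
    rw [hdisj, mem_bot, inv_mul_eq_one] at hm
    exact Prod.ext (Subtype.ext hm.symm) (Subtype.ext (mul_left_cancel (hm ▸ h')))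
  have hsurj : Function.Surjective f := by
    have hle : Nat.card X ≤ Nat.card (C × R) := by
      rw [Nat.card_prod]
      exact Nat.le_of_dvd (Nat.mul_pos Nat.card_pos Nat.card_pos) hdvd
    exact (Nat.bijective_iff_injective_and_card f).2
      ⟨hinj, le_antisymm (Nat.card_le_card_of_injective f hinj) hle⟩ |>.2
  -- the element fixes every conjugate
  have hfixall : ∀ x ∈ X, ∀ g : G, g ∈ R → ∃ g' ∈ R, y * (x * g * x⁻¹) * y⁻¹ = x * g' * x⁻¹ := by
    intro x hx g hg
    obtain ⟨⟨c, v⟩, hcv⟩ := hsurj ⟨x, hx⟩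
    have hx' : (c : G) * v = x := congrArg Subtype.val hcv
    have hcy : (c : G) * y = y * (c : G) := mem_centralizer_singleton_iff.1 c.2.2
    refine ⟨(v : G)⁻¹ * (y * ((v : G) * g * (v : G)⁻¹) * y⁻¹) * v, mul_mem (mul_mem (inv_mem v.2)
      ((mem_normalizer_iff.1 hQ _).1 (mul_mem (mul_mem v.2 hg) (inv_mem v.2)))) v.2, ?_⟩
    rw [← hx']
    calc y * ((c : G) * v * g * ((c : G) * v)⁻¹) * y⁻¹
        = (y * (c : G)) * ((v : G) * g * (v : G)⁻¹) * ((c : G)⁻¹ * y⁻¹) := by group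
      _ = ((c : G) * y) * ((v : G) * g * (v : G)⁻¹) * ((c : G)⁻¹ * y⁻¹) := by rw [hcy]
      _ = ((c : G) * y) * ((v : G) * g * (v : G)⁻¹) * (y * (c : G))⁻¹ := by group
      _ = ((c : G) * y) * ((v : G) * g * (v : G)⁻¹) * ((c : G) * y)⁻¹ := by rw [hcy]
      _ = _ := by group
  have hfixall' : ∀ x ∈ X, ∀ g : G, g ∈ R → ∃ g' ∈ R, y⁻¹ * (x * g * x⁻¹) * y = x * g' * x⁻¹ := by
    intro x hx g hg
    obtain ⟨⟨c, v⟩, hcv⟩ := hsurj ⟨x, hx⟩
    have hx' : (c : G) * v = x := congrArg Subtype.val hcv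
    have hcy : (c : G) * y⁻¹ = y⁻¹ * (c : G) :=
      (Commute.inv_right (mem_centralizer_singleton_iff.1 c.2.2)).eq
    refine ⟨(v : G)⁻¹ * (y⁻¹ * ((v : G) * g * (v : G)⁻¹) * y) * v, mul_mem (mul_mem (inv_mem v.2) ?_) v.2, ?_⟩
    · have := (mem_normalizer_iff.1 (inv_mem hQ) _).1 (mul_mem (mul_mem v.2 hg) (inv_mem v.2))
      rwa [inv_inv] at this
    rw [← hx']
    calc y⁻¹ * ((c : G) * v * g * ((c : G) * v)⁻¹) * y
        = (y⁻¹ * (c : G)) * ((v : G) * g * (v : G)⁻¹) * ((c : G)⁻¹ * y) := by group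
      _ = ((c : G) * y⁻¹) * ((v : G) * g * (v : G)⁻¹) * ((c : G)⁻¹ * y) := by rw [hcy]
      _ = ((c : G) * y⁻¹) * ((v : G) * g * (v : G)⁻¹) * (y⁻¹ * (c : G))⁻¹ := by group
      _ = ((c : G) * y⁻¹) * ((v : G) * g * (v : G)⁻¹) * ((c : G) * y⁻¹)⁻¹ := by rw [hcy]
      _ = _ := by group
  -- commutators with `y` exhaust `R`
  let τ : R → R := fun g => ⟨(g : G) * (y * (g : G)⁻¹ * y⁻¹),
    mul_mem g.2 ((mem_normalizer_iff.1 hQ _).1 (inv_mem g.2))⟩
  have hτ : Function.Injective τ := fun g h e => by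
    have e' : (g : G) * (y * (g : G)⁻¹ * y⁻¹) = (h : G) * (y * (h : G)⁻¹ * y⁻¹) := congrArg Subtype.val e
    have hmem : (h : G)⁻¹ * g ∈ R ⊓ centralizer ({y} : Set G) := by
      refine Subgroup.mem_inf.2 ⟨mul_mem (inv_mem h.2) g.2, mem_centralizer_singleton_iff.2 ?_⟩
      calc (h : G)⁻¹ * g * y = (h : G)⁻¹ * ((g : G) * (y * (g : G)⁻¹ * y⁻¹)) * y * g := by group
        _ = (h : G)⁻¹ * ((h : G) * (y * (h : G)⁻¹ * y⁻¹)) * y * g := by rw [e']
        _ = y * ((h : G)⁻¹ * g) := by group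
    rw [hfix, mem_bot, inv_mul_eq_one] at hmem
    exact Subtype.ext hmem.symm
  have hnormR : ∀ x ∈ X, ∀ b ∈ R, ∀ g ∈ R, ∃ g' ∈ R, b * (x * g * x⁻¹) * b⁻¹ = x * g' * x⁻¹ := by
    intro x hx b hb g hg
    obtain ⟨⟨a, ha⟩, hab⟩ := (Finite.injective_iff_surjective.1 hτ) ⟨b, hb⟩
    have hb' : a * (y * a⁻¹ * y⁻¹) = b := congrArg Subtype.val hab
    obtain ⟨g1, hg1, e1⟩ := hfixall' x hx g hg
    have hax : a⁻¹ * x ∈ X := mul_mem (inv_mem (Subgroup.map_subtype_le _ ha)) hx
    obtain ⟨g2, hg2, e2⟩ := hfixall (a⁻¹ * x) hax g1 hg1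
    refine ⟨g2, hg2, ?_⟩
    calc b * (x * g * x⁻¹) * b⁻¹
        = a * (y * ((a⁻¹ * (y⁻¹ * (x * g * x⁻¹) * y) * a)) * y⁻¹) * a⁻¹ := by rw [← hb']; group
      _ = a * (y * ((a⁻¹ * x) * g1 * (a⁻¹ * x)⁻¹) * y⁻¹) * a⁻¹ := by rw [e1]; group
      _ = a * ((a⁻¹ * x) * g2 * (a⁻¹ * x)⁻¹) * a⁻¹ := by rw [e2]
      _ = _ := by group
  refine ⟨fun g hg x => ?_⟩
  -- `Q` normalises a conjugate of itself, so equals it
  have hmemR : ∀ b : X, b ∈ (Q : Subgroup X) ↔ (b : G) ∈ R := fun b =>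
    ⟨fun h => ⟨b, h, rfl⟩, fun ⟨c, hc, e⟩ => by rwa [Subtype.ext e] at hc⟩
  have hQN : (Q : Subgroup X) ≤ normalizer (((x • Q : Sylow q0 X) : Subgroup X) : Set X) := by
    intro b hb
    rw [Sylow.coe_subgroup_smul]
    have key : ∀ b : X, b ∈ (Q : Subgroup X) → ∀ w, w ∈ MulAut.conj x • (Q : Subgroup X) →
        b * w * b⁻¹ ∈ MulAut.conj x • (Q : Subgroup X) := by
      intro b hb w hw
      obtain ⟨g, hg, rfl⟩ := hw
      obtain ⟨g', hg', e⟩ := hnormR x x.2 b ((hmemR b).1 hb) g ((hmemR g).1 hg)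
      obtain ⟨g'', hg'', e''⟩ := hg'
      refine ⟨g'', hg'', Subtype.ext ?_⟩
      show (x : G) * (g'' : G) * (x : G)⁻¹ = (b : G) * ((x : G) * (g : G) * (x : G)⁻¹) * (b : G)⁻¹
      rw [show (g'' : G) = g' from e'', e]
    rw [mem_normalizer_iff]
    refine fun w => ⟨key b hb w, fun hw => ?_⟩
    have := key b⁻¹ (inv_mem hb) _ hw
    rwa [show b⁻¹ * (b * w * b⁻¹) * b⁻¹⁻¹ = w by group] at this
  have hsup : IsPGroup q0 ((Q : Subgroup X) ⊔ ((x • Q : Sylow q0 X) : Subgroup X) : Subgroup X) :=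
    IsPGroup.to_sup_of_normal_right' Q.2 (x • Q).2 hQN
  have heq : ((x • Q : Sylow q0 X) : Subgroup X) = Q :=
    ((x • Q).3 hsup le_sup_right).symm.trans (Q.3 hsup le_sup_left)
  rw [← heq, Sylow.coe_subgroup_smul]
  exact ⟨g, hg, rfl⟩

/-- A `q`-group with such an element is abelian. -/
theorem comm_of_regular {y : G} (hy : orderOf y = r) {q a : ℕ} [Fact q.Prime] {R : Subgroup G}
    (hR : Nat.card R = q ^ a) (hyR : y ∈ normalizer (R : Set G))
    (hfix : R ⊓ centralizer ({y} : Set G) = ⊥)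
    (hrig : ∀ i, 0 < i → i < a → q ^ i % r ≠ 1 % r) : ∀ u ∈ R, ∀ v ∈ R, u * v = v * u := by
  set Z := R ⊓ centralizer (R : Set G) with hZ
  have hZR : Z ≤ R := inf_le_left
  suffices h : Z = R by
    intro u hu v hv
    exact (mem_centralizer_iff.1 ((h.ge hv).2 : v ∈ centralizer (R : Set G)) u hu)
  refine eq_of_le_of_card_ge hZR ?_
  obtain ⟨i, hia, hi⟩ := (Nat.dvd_prime_pow (Fact.out : q.Prime)).1 (hR ▸ card_dvd_of_le hZR)
  have hyZ : y ∈ normalizer (Z : Set G) := by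
    have key : ∀ g ∈ normalizer (R : Set G), ∀ z ∈ Z, g * z * g⁻¹ ∈ Z := fun g hg z hz =>
      ⟨(mem_normalizer_iff.1 hg z).1 hz.1, mem_centralizer_iff.2 fun u hu => by
        have hu' : g⁻¹ * u * g ∈ R := by
          have := (mem_normalizer_iff.1 (inv_mem hg) u).1 hu
          rwa [inv_inv] at this
        have := mem_centralizer_iff.1 hz.2 _ hu'
        calc u * (g * z * g⁻¹) = g * ((g⁻¹ * u * g) * z) * g⁻¹ := by group
          _ = g * (z * (g⁻¹ * u * g)) * g⁻¹ := by rw [this]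
          _ = g * z * g⁻¹ * u := by group⟩
    rw [mem_normalizer_iff]
    refine fun z => ⟨key y hyR z, fun hz => ?_⟩
    have := key y⁻¹ (inv_mem hyR) _ hz
    rwa [show y⁻¹ * (y * z * y⁻¹) * y⁻¹⁻¹ = z by group] at this
  obtain ⟨j, -, hj, hmod⟩ := card_centralizer_congr hy (Fact.out : q.Prime) hi hyZ
  have hbot : Z ⊓ centralizer ({y} : Set G) = ⊥ :=
    le_bot_iff.1 (hfix ▸ inf_le_inf_right _ hZR)
  rw [hbot, card_bot, eq_comm, Nat.pow_eq_one] at hj
  · rcases hj with hj | hj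
    · exact absurd hj (Fact.out : q.Prime).ne_one
    · subst hj
      rw [pow_zero] at hmod
      rcases Nat.eq_zero_or_pos a with ha | ha
      · rw [hR, ha, pow_zero]; exact Nat.card_pos
      have hi0 : 0 < i := by
        refine Nat.pos_of_ne_zero fun e => ?_
        rw [e, pow_zero] at hi
        have hnt : Nontrivial R := Finite.one_lt_card_iff_nontrivial.1
          (hR ▸ Nat.one_lt_pow ha.ne' (Fact.out : q.Prime).one_lt)
        have := (IsPGroup.of_card hR).center_nontrivial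
        obtain ⟨c, hc⟩ := exists_ne (1 : Subgroup.center R)
        have hcZ : ((c : R) : G) ∈ Z := ⟨(c : R).2, mem_centralizer_iff.2 fun u hu =>
          congrArg Subtype.val (mem_center_iff.1 c.2 ⟨u, hu⟩)⟩
        rw [Subgroup.card_eq_one.1 hi, mem_bot] at hcZ
        exact hc (Subtype.ext (Subtype.ext hcZ))
      rcases Nat.lt_or_ge i a with h | h
      · exact absurd hmod.symm (hrig i hi0 h)
      · rw [hR, hi]; exact Nat.pow_le_pow_right (Fact.out : q.Prime).pos h

end Cfsg.Lib.Small.DegreeGraph
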