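import Cfsg.Agent.Small.DegreeGraph.Reduce.Counts
import Cfsg.Agent.Chars.Inertia
import Cfsg.Agent.Chars.Equivalence
import Cfsg.Agent.Chars.SmallDegreesSylow
import Cfsg.Agent.OddChar.InducedFamily
import Cfsg.Agent.Known.SLTwoDegrees.Degrees

/-!
# The cases with a proper simple section
-/

set_option autoImplicit false
set_option linter.unusedSectionVars false

namespace Cfsg.Lib.Small.DegreeGraph

open Subgroup Cfsg.Lib.Chars
open scoped _root_.Classical

universe u

theorem adj_two_three {G : Type u} [Group G] {d : ℕ} (hd : d ∈ Cfsg.charDegrees G) (h6 : 6 ∣ d) :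
    (Cfsg.degreeGraph G).Adj 2 3 :=
  ⟨by norm_num, Nat.prime_two, Nat.prime_three, d, hd, by norm_num; exact h6⟩

theorem charDegrees_equiv {A B : Type*} [Group A] [Finite A] [Group B] [Finite B] (e : A ≃* B) :
    Cfsg.charDegrees B ⊆ Cfsg.charDegrees A :=
  Cfsg.Lib.SLTwoDegrees.charDegrees_subset e.toMonoidHom e.surjective

/-- A simple group of order 168 has a character of degree 6. -/
theorem six_mem_168 {T : Type u} [Group T] [Finite T] [IsSimpleGroup T] (hT : Nat.card T = 168) :
    6 ∈ Cfsg.charDegrees T := by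
  have : Fact (Nat.Prime 7) := ⟨by norm_num⟩
  obtain ⟨e⟩ := Cfsg.Agent.S0495.result hT (F := ZMod 7) (ZMod.card 7)
  have h := Cfsg.Lib.SLTwoDegrees.pred_mem_psl_odd (F := ZMod 7) (by rw [ZMod.card]; decide)
    (by rw [ZMod.card]; norm_num)
  rw [ZMod.card] at h
  exact charDegrees_equiv e h

/-- A simple group of order 60 has a character of degree 3. -/
theorem three_mem_60 {T : Type u} [Group T] [Finite T] [IsSimpleGroup T] (hT : Nat.card T = 60) :
    3 ∈ Cfsg.charDegrees T := by
  have : Fintype (GaloisField 2 2) := Fintype.ofFinite _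
  have hc := card_galois 2 (by norm_num)
  obtain ⟨e⟩ := equiv_psl_of_card (S := T) (GaloisField 2 2) hc (by norm_num) (n := 60) (by norm_num)
    (by simp [orders]) hT
  have h := Cfsg.Lib.SLTwoDegrees.pred_mem_psl_even (F := GaloisField 2 2) (by rw [hc]; norm_num)
  rw [hc] at h
  norm_num at h
  exact charDegrees_equiv e h

/-- A non-abelian group of order 6 has a character of degree 2. -/
theorem two_mem_six {H : Type u} [Group H] [Finite H] (hH : Nat.card H = 6) (a b : H) (hab : a * b ≠ b * a) :
    2 ∈ Cfsg.charDegrees H := by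
  have := Fintype.ofFinite H
  by_contra hno
  refine hab (mul_comm_of_all_linear (fun χ => ?_) a b)
  rw [irr_apply_one_eq_deg]
  have h1 := Cfsg.Lib.Chars.deg_sq_le χ
  rw [hH] at h1
  have hpos : 0 < deg (χ : H → ℂ) := by
    refine Nat.pos_of_ne_zero fun e => IsIrrCharacter.apply_one_ne_zero χ.2 ?_
    rw [irr_apply_one_eq_deg, e, Nat.cast_zero]
  have hle : deg (χ : H → ℂ) ≤ 2 := by
    by_contra hlt
    have := Nat.pow_le_pow_left (show 3 ≤ deg (χ : H → ℂ) by omega) 2
    omega
  have hne : deg (χ : H → ℂ) ≠ 2 := fun e => hno ⟨χ, e⟩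
  rw [show deg (χ : H → ℂ) = 1 by omega, Nat.cast_one]

/-- An irreducible character of degree 3 of a simple group does not take one value on the generators
of a subgroup of order 5. -/
theorem not_constant_five {T : Type u} [Group T] [Finite T] [IsSimpleGroup T] {θ : T → ℂ}
    (hθ : Cfsg.IsIrrCharacter T θ) (h3 : θ 1 = 3) {v : T} (hv : orderOf v = 5)
    (h2 : θ (v ^ 2) = θ v) (h3' : θ (v ^ 3) = θ v) (h4 : θ (v ^ 4) = θ v) : False := by
  have := Fintype.ofFinite T
  obtain ⟨ι, hι, c, z, hz, hc⟩ := IsCharacter.exists_cyclic_decomp (isCharacter_of_irr hθ) v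
  rw [hv] at hz
  have hsum : ∀ i, ∑ j ∈ Finset.range 5, z i ^ j = if z i = 1 then (5 : ℂ) else 0 := by
    intro i
    split_ifs with h1
    · simp [h1]
    · rw [geom_sum_eq h1, hz i, sub_self, zero_div]
  set m := ∑ i ∈ Finset.univ.filter (fun i => z i = 1), c i with hm
  have htot : ∑ j ∈ Finset.range 5, θ (v ^ j) = 5 * (m : ℂ) := by
    rw [Finset.sum_congr rfl fun j _ => hc j, Finset.sum_comm]
    rw [Finset.sum_congr rfl fun i _ => by rw [← Finset.mul_sum, hsum i], hm, Finset.sum_filter,
      Nat.cast_sum, Finset.mul_sum]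
    refine Finset.sum_congr rfl fun i _ => ?_
    split_ifs <;> push_cast <;> ring
  have hm3 : m ≤ 3 := by
    have h0 := hc 0
    rw [pow_zero, h3] at h0
    simp only [pow_zero, mul_one] at h0
    have hall : ∑ i, c i = 3 := by exact_mod_cast h0.symm
    exact hall ▸ Finset.sum_le_univ_sum_of_nonneg (fun i => Nat.zero_le _)
  simp only [Finset.sum_range_succ, Finset.sum_range_zero, zero_add, pow_zero, pow_one, h2, h3', h4, h3] at htot
  have hint : IsIntegral ℤ (θ v) := by
    obtain ⟨k, ρ, hρ, he⟩ := hθ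
    rw [← he]
    exact isIntegral_character ρ v
  have hq : θ v = (((5 * (m : ℚ) - 3) / 4 : ℚ) : ℂ) := by
    push_cast
    linear_combination htot / 4
  rw [hq] at hint
  obtain ⟨w, hw⟩ := int_of_isIntegral_rat hint
  have hw' : 5 * (m : ℤ) - 3 = 4 * w := by
    have : ((5 * (m : ℤ) - 3 : ℤ) : ℚ) = ((4 * w : ℤ) : ℚ) := by push_cast; linarith
    exact_mod_cast this
  have hm' : m = 3 := by omega
  -- so the element is in the kernel
  obtain ⟨k, ρ, hρ, rfl⟩ := hθ
  have hk : (k : ℂ) = 3 := by
    rw [← h3, ρ.char_one]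
    simp
  let Ker : Subgroup T :=
    { carrier := {g | ρ g = LinearMap.id}
      one_mem' := by show ρ 1 = LinearMap.id; rw [map_one]; rfl
      mul_mem' := fun {a b} ha hb => by
        show ρ (a * b) = LinearMap.id
        rw [map_mul, show ρ a = LinearMap.id from ha, show ρ b = LinearMap.id from hb]
        rfl
      inv_mem' := fun {a} ha => by
        show ρ a⁻¹ = LinearMap.id
        have h1 : ρ a⁻¹ * ρ a = 1 := by rw [← map_mul, inv_mul_cancel, map_one]
        rw [show ρ a = LinearMap.id from ha] at h1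
        exact h1 }
  have hKn : Ker.Normal := ⟨fun a ha g => by
    show ρ (g * a * g⁻¹) = LinearMap.id
    rw [map_mul, map_mul, show ρ a = LinearMap.id from ha]
    show ρ g * 1 * ρ g⁻¹ = 1
    rw [mul_one, ← map_mul, mul_inv_cancel, map_one]⟩
  have hvK : v ∈ Ker := by
    refine (eq_id_of_character_eq_finrank ρ v).1 ?_
    rw [hq, hm', Module.finrank_fintype_fun_eq_card, Fintype.card_fin, hk]
    norm_num
  rcases hKn.eq_bot_or_eq_top with hb | hb
  · rw [hb, mem_bot] at hvK
    rw [hvK, orderOf_one] at hv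
    omega
  · have hall : ∀ g, ρ.character g = 3 := fun g => by
      rw [(eq_id_of_character_eq_finrank ρ g).2 (show g ∈ Ker from hb ▸ mem_top g),
        Module.finrank_fintype_fun_eq_card, Fintype.card_fin, hk]
    have h1 := classInner_self_irr (χ := ρ.character) ⟨k, ρ, hρ, rfl⟩
    rw [classInner_def] at h1
    simp only [hall, map_ofNat, Finset.sum_const, Finset.card_univ, nsmul_eq_mul] at h1
    rw [Nat.card_eq_fintype_card, inv_mul_eq_one₀ (by exact_mod_cast Fintype.card_ne_zero)] at h1
    have hT : (Fintype.card T : ℂ) ≠ 0 := by exact_mod_cast Fintype.card_ne_zero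
    exact absurd (mul_left_cancel₀ hT (h1.symm.trans (mul_one _).symm) : (3 : ℂ) * 3 = 1) (by norm_num)

end Cfsg.Lib.Small.DegreeGraph
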